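import Cfsg.Agent.SuzukiUnique.Normalise
import Cfsg.Agent.Suzuki.Simple
import Cfsg.Agent.Suzuki.LieModel
import Cfsg.Agent.SuzukiTwoGroup.TypeA

/-!
A simple group with normalised coordinates is the Suzuki group.
-/

set_option autoImplicit false
set_option linter.unusedSectionVars false
set_option linter.style.haveILetI false

namespace CfsgLib.SuzukiUnique

open MulAction

/-- A simple group is generated by a point-transitive set containing a normal subgroup of a point stabiliser. -/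
theorem closure_eq_top {G Ω : Type*} [Group G] [MulAction G Ω] [IsSimpleGroup G] (a : Ω) (U : Subgroup G)
    (hU : U ≠ ⊥) (hnorm : ∀ g : G, g • a = a → ∀ u ∈ U, g * u * g⁻¹ ∈ U) (H : Subgroup G) (hUH : U ≤ H)
    (htr : ∀ w : Ω, ∃ h ∈ H, h • a = w) : H = ⊤ := by
  have hle : Subgroup.normalClosure (U : Set G) ≤ H := by
    refine (Subgroup.closure_le _).2 fun x hx => ?_
    obtain ⟨u, hu, hc⟩ := Group.mem_conjugatesOfSet_iff.1 hx
    obtain ⟨g, rfl⟩ := isConj_iff.1 hc
    obtain ⟨h, hh, hha⟩ := htr (g • a)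
    have h1 : (h⁻¹ * g) • a = a := by rw [mul_smul, ← hha, inv_smul_smul]
    rw [show g * u * g⁻¹ = h * ((h⁻¹ * g) * u * (h⁻¹ * g)⁻¹) * h⁻¹ by group]
    exact mul_mem (mul_mem hh (hUH (hnorm _ h1 u hu))) (inv_mem hh)
  rcases (Subgroup.normalClosure_normal (s := (U : Set G))).eq_bot_or_eq_top with h | h
  · exact absurd ((Subgroup.eq_bot_iff_forall U).2 fun u hu =>
      (Subgroup.eq_bot_iff_forall _).1 h u (Subgroup.subset_normalClosure hu)) hU
  · exact top_le_iff.1 (h ▸ hle)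

variable {F : Type} [Field F] [Fintype F] [CharP F 2]

namespace SData

variable {G Ω : Type*} [Group G] [MulAction G Ω] {a : Ω} (S : SData G Ω a F)

theorem phi_eq_theta (hβ : S.β = 0) {m : ℕ} (hF : Fintype.card F = 2 ^ (2 * m + 1)) (x : F) :
    S.φ x = Suzuki.θ m x := by
  have hit : ∀ (k : ℕ) (x : F), ((S.φ * S.φ) ^ k) x = x ^ 2 ^ k := by
    intro k
    induction k with
    | zero => intro x; simp
    | succ k ih =>
      intro x
      rw [pow_succ]
      show ((S.φ * S.φ) ^ k) (S.φ (S.φ x)) = _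
      rw [S.phi_phi hβ, ih, ← pow_mul, ← pow_succ']
  have h1 : S.φ ^ (2 * (2 * m + 1)) = 1 := by
    rw [pow_mul, pow_two]
    refine RingEquiv.ext fun y => ?_
    rw [hit, ← hF, FiniteField.pow_card]
    rfl
  have hcop : Nat.Coprime (orderOf S.φ) 2 :=
    Nat.coprime_two_right.2 (SuzukiTwoGroup.odd_orderOf_of_injective S.φ S.psi_injective)
  have h2 : S.φ ^ (2 * m + 1) = 1 :=
    orderOf_dvd_iff_pow_eq_one.1 (hcop.dvd_of_dvd_mul_left (orderOf_dvd_of_pow_eq_one h1))
  have h3 : S.φ = (S.φ * S.φ) ^ (m + 1) := by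
    rw [← pow_two, ← pow_mul, show 2 * (m + 1) = (2 * m + 1) + 1 by ring, pow_succ, h2, one_mul]
  rw [h3, hit]
  rfl

/-- The point map. -/
noncomputable def pointEquiv : Option (F × F) ≃ Ω := by
  refine Equiv.ofBijective (fun o => o.elim a fun p => S.el p • S.t • a) ⟨?_, ?_⟩
  · have hne : ∀ p, S.el p • S.t • a ≠ a := fun p e =>
      S.not_fix ((smul_left_cancel_iff (S.el p)).1 (e.trans (S.el_fix p).symm))
    rintro (_ | p) (_ | q) e
    · rfl
    · exact absurd e.symm (hne q)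
    · exact absurd e (hne p)
    · rw [S.el_inj p q e]
  · intro w
    by_cases hw : w = a
    · exact ⟨none, hw.symm⟩
    · obtain ⟨p, hp⟩ := S.el_surj w hw
      exact ⟨some p, hp⟩

theorem pointEquiv_none : S.pointEquiv none = a := rfl

theorem pointEquiv_some (p : F × F) : S.pointEquiv (some p) = S.el p • S.t • a := rfl

/-- The kernel as a subgroup. -/
def kernel : Subgroup G where
  carrier := Set.range S.el
  one_mem' := ⟨(0, 0), S.el_zero⟩
  mul_mem' := by rintro _ _ ⟨p, rfl⟩ ⟨q, rfl⟩; exact ⟨_, (S.el_mul p q).symm⟩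
  inv_mem' := by rintro _ ⟨p, rfl⟩; exact ⟨_, (S.el_inv p).symm⟩

theorem closure_gens_eq_top [IsSimpleGroup G] :
    Subgroup.closure (insert S.t (Set.range S.el)) = ⊤ := by
  refine closure_eq_top a S.kernel (fun h => ?_) ?_ _
    (fun u hu => Subgroup.subset_closure (Or.inr hu)) ?_
  · have h1 : S.el (1, 0) ∈ S.kernel := ⟨_, rfl⟩
    rw [h, Subgroup.mem_bot, ← S.el_zero] at h1
    exact one_ne_zero (congrArg Prod.fst (S.el_injective h1))
  · intro g hg u hu
    obtain ⟨q, rfl⟩ := hu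
    have hga : g • S.t • a ≠ a := fun e => S.not_fix ((smul_left_cancel_iff g).1 (e.trans hg.symm))
    obtain ⟨p, hp⟩ := S.el_surj _ hga
    obtain ⟨c, hc, hd⟩ := S.δ_surj ((S.el p)⁻¹ * g)
      (by rw [mul_smul, hg, inv_smul_eq_iff, S.el_fix])
      (by rw [mul_smul, ← hp, inv_smul_smul])
    rw [show g = S.el p * S.δ c by rw [← hd, mul_inv_cancel_left]]
    refine ⟨pm S.φ S.β (pm S.φ S.β p (sc S.φ c q)) (pinv S.φ p), ?_⟩
    rw [← S.el_mul, ← S.el_mul, ← S.el_inv]
    calc S.el p * S.el (sc S.φ c q) * (S.el p)⁻¹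
        = S.el p * (S.el (sc S.φ c q) * S.δ c) * (S.δ c)⁻¹ * (S.el p)⁻¹ := by group
      _ = _ := by rw [← S.δ_el c q hc]; group
  · intro w
    by_cases hw : w = a
    · exact ⟨1, one_mem _, by rw [one_smul, hw]⟩
    obtain ⟨p, hp⟩ := S.el_surj w hw
    exact ⟨S.el p * S.t, mul_mem (Subgroup.subset_closure (Or.inr ⟨p, rfl⟩))
      (Subgroup.subset_closure (Or.inl rfl)), by rw [mul_smul, hp]⟩

theorem closure_model_eq_top {m : ℕ} (hS : Suzuki.SzField F m) :
    Subgroup.closure (insert (Suzuki.weylEl hS)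
      (Set.range fun p : F × F => Suzuki.uniEl hS p.1 p.2)) = ⊤ := by
  haveI := Suzuki.isSimpleGroup_sz hS
  refine closure_eq_top (Suzuki.ovoidInf (F := F) (m := m)) (Suzuki.uniSub hS) (fun h => ?_) ?_ _ ?_ ?_
  · have h1 := Suzuki.uniEl_mem hS (1 : F) 0
    rw [h, Subgroup.mem_bot, ← Suzuki.uniEl_zero hS, Suzuki.uniEl_eq_iff] at h1
    exact one_ne_zero h1.1
  · rintro g hg _ ⟨c, d, rfl⟩
    obtain ⟨x, y, μ, rfl⟩ := Suzuki.pointStab_eq hS (congrArg Subtype.val hg :)
    rw [show Suzuki.uniEl hS x y * Suzuki.torSz hS μ * Suzuki.uniEl hS c d *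
        (Suzuki.uniEl hS x y * Suzuki.torSz hS μ)⁻¹ = Suzuki.uniEl hS x y *
        (Suzuki.torSz hS μ * Suzuki.uniEl hS c d * (Suzuki.torSz hS μ)⁻¹) * (Suzuki.uniEl hS x y)⁻¹ by group,
      Suzuki.torSz_conj_uniEl]
    exact mul_mem (mul_mem (Suzuki.uniEl_mem hS _ _) (Suzuki.uniEl_mem hS _ _))
      (inv_mem (Suzuki.uniEl_mem hS _ _))
  · rintro _ ⟨c, d, rfl⟩
    exact Subgroup.subset_closure (Or.inr ⟨(c, d), rfl⟩)
  · rintro ⟨p, hp⟩
    rcases Suzuki.mem_suzukiOvoid_iff.1 hp with rfl | ⟨x, y, rfl⟩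
    · exact ⟨1, one_mem _, one_smul _ _⟩
    refine ⟨Suzuki.uniEl hS x y * Suzuki.weylEl hS, mul_mem
      (Subgroup.subset_closure (Or.inr ⟨(x, y), rfl⟩)) (Subgroup.subset_closure (Or.inl rfl)), Subtype.ext ?_⟩
    show (Suzuki.uni m x y * Suzuki.weyl) • Cfsg.suzukiPointInfinity F = Suzuki.affPt m x y
    rw [mul_smul, Suzuki.weyl_smul_infinity, Suzuki.uni_smul_zero hS]

theorem nonempty_mulEquiv [IsSimpleGroup G] [FaithfulSMul G Ω] (hβ : S.β = 0) {m : ℕ}
    (hS : Suzuki.SzField F m) : Nonempty (G ≃* Cfsg.Sz F m) := by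
  haveI := Suzuki.sz_faithful hS
  have hφ : ∀ x, S.φ x = Suzuki.θ m x := S.phi_eq_theta hβ hS.card_eq
  set j : Cfsg.suzukiOvoid F m ≃ Ω := (Suzuki.ovoidEquiv F m).symm.trans S.pointEquiv with hj
  let ρ : Cfsg.Sz F m →* Equiv.Perm Ω :=
    j.permCongrHom.toMonoidHom.comp (MulAction.toPermHom _ (Cfsg.suzukiOvoid F m))
  have hρ : Function.Injective ρ := fun x y h =>
    MulAction.toPerm_injective (j.permCongrHom.injective h)
  have hj0 : ∀ o, j (Suzuki.ovoidEquiv F m o) = S.pointEquiv o := fun o =>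
    congrArg S.pointEquiv ((Suzuki.ovoidEquiv F m).symm_apply_apply o)
  have hext : ∀ (g : G) (x : Cfsg.Sz F m),
      (∀ o, x • Suzuki.ovoidEquiv F m o = j.symm (g • S.pointEquiv o)) →
        ρ x = MulAction.toPermHom G Ω g := by
    intro g x h
    refine Equiv.ext fun w => ?_
    obtain ⟨o, rfl⟩ := S.pointEquiv.surjective w
    show j (x • j.symm (S.pointEquiv o)) = g • S.pointEquiv o
    rw [← hj0, j.symm_apply_apply, h, j.apply_symm_apply, hj0]
  have hsym : ∀ o, j.symm (S.pointEquiv o) = Suzuki.ovoidEquiv F m o := fun o => by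
    rw [← hj0, j.symm_apply_apply]
  have hu : ∀ p : F × F, ρ (Suzuki.uniEl hS p.1 p.2) = MulAction.toPermHom G Ω (S.el p) := by
    intro p
    refine hext _ _ ?_
    rintro (_ | ⟨x, y⟩)
    · rw [S.pointEquiv_none, S.el_fix, ← S.pointEquiv_none, hsym]
      exact Subtype.ext (Suzuki.uni_smul_infinity p.1 p.2)
    · rw [S.pointEquiv_some, ← mul_smul, S.el_mul, ← S.pointEquiv_some, hsym]
      refine Subtype.ext ?_
      show Suzuki.uni m p.1 p.2 • Suzuki.affPt m x y = Suzuki.affPt m _ _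
      rw [Suzuki.uni_smul_aff hS]
      simp only [pm, hβ, ← hφ]
      congr 1 <;> ring
  have hw : ρ (Suzuki.weylEl hS) = MulAction.toPermHom G Ω S.t := by
    refine hext _ _ ?_
    rintro (_ | ⟨x, y⟩)
    · rw [S.pointEquiv_none, show S.t • a = S.pointEquiv (some (0, 0)) by
        rw [S.pointEquiv_some, S.el_zero, one_smul], hsym]
      refine Subtype.ext ?_
      show (Suzuki.weyl : Matrix.SpecialLinearGroup (Fin 4) F) • Cfsg.suzukiPointInfinity F = Suzuki.affPt m (0 : F) 0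
      rw [Suzuki.weyl_smul_infinity, Suzuki.affPt_zero]
    · by_cases h0 : x ≠ 0 ∨ y ≠ 0
      · obtain ⟨q, hq, hf, hq1, hq2⟩ := S.swap_formula hβ h0
        rw [S.pointEquiv_some, hq, ← S.pointEquiv_some, hsym]
        refine Subtype.ext ?_
        show (Suzuki.weyl : Matrix.SpecialLinearGroup (Fin 4) F) • Suzuki.affPt m x y = Suzuki.affPt m q.1 q.2
        rw [Suzuki.weyl_smul_aff hS h0]
        have e : Suzuki.szF m x y = x * y + x ^ 2 * S.φ x + S.φ y := by
          rw [Suzuki.szF, hφ, hφ]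
        rw [e, ← eq_div_iff hf |>.2 hq1, ← eq_div_iff hf |>.2 hq2]
      · push Not at h0
        obtain ⟨rfl, rfl⟩ := h0
        rw [S.pointEquiv_some, S.el_zero, one_smul, ← mul_smul, S.mul_self, one_smul,
          ← S.pointEquiv_none, hsym]
        refine Subtype.ext ?_
        show (Suzuki.weyl : Matrix.SpecialLinearGroup (Fin 4) F) • Suzuki.affPt m (0 : F) 0 = Cfsg.suzukiPointInfinity F
        rw [Suzuki.affPt_zero, Suzuki.weyl_smul_zero]
  have hrange : ρ.range = (MulAction.toPermHom G Ω).range := by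
    rw [MonoidHom.range_eq_map ρ, MonoidHom.range_eq_map (MulAction.toPermHom G Ω),
      ← closure_model_eq_top hS, ← S.closure_gens_eq_top, MonoidHom.map_closure, MonoidHom.map_closure,
      Set.image_insert_eq, Set.image_insert_eq, hw, ← Set.range_comp, ← Set.range_comp]
    congr 2
    exact congrArg Set.range (funext hu)
  exact ⟨(MonoidHom.ofInjective (f := MulAction.toPermHom G Ω) MulAction.toPerm_injective).trans
    ((MulEquiv.subgroupCongr hrange.symm).trans (MonoidHom.ofInjective hρ).symm)⟩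

include S in
theorem isoSuzuki [IsSimpleGroup G] [FaithfulSMul G Ω] {m : ℕ} (hm : 1 ≤ m)
    (hF : Fintype.card F = 2 ^ (2 * m + 1)) : Cfsg.Lie.IsoSuzuki G := by
  obtain ⟨S', hS'⟩ := S.exists_normalised
  have hS : Suzuki.SzField F m := ⟨hm, hF⟩
  obtain ⟨e⟩ := S'.nonempty_mulEquiv hS' hS
  exact ⟨F, inferInstance, inferInstance, m, hm, hF, ⟨e.trans (Suzuki.lieSzEquiv hS)⟩⟩

end SData

end CfsgLib.SuzukiUnique
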