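import Cfsg.Agent.SuzukiUnique.Coord
import Cfsg.Agent.SuzukiUnique.Model
import Cfsg.Agent.Zassenhaus.SuzukiOrder

/-!
A simple Zassenhaus group whose point kernel is a non-abelian 2-group is a Suzuki group.
-/

set_option autoImplicit false
set_option linter.unusedSectionVars false
set_option linter.style.haveILetI false

namespace CfsgLib.SuzukiUnique

open MulAction Zassenhaus

variable {G Ω : Type*} [Group G] [MulAction G Ω] {a : Ω} {t : G} {Q : Subgroup G} {n q : ℕ}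

/-- The element of the kernel in the structure equation is not an involution. -/
theorem exists_structure_not_sq [Finite G] (K : KernelData G Ω a t Q n q) (hn : n = q ^ 2) :
    ∃ s r : G, s ∈ stabilizer G a ∧ s ≠ 1 ∧ s * s = 1 ∧ r ∈ Q ∧ r * r ≠ 1 ∧
      t * s * t = r⁻¹ * t * r := by
  obtain ⟨s, r, ⟨hsA, hs1, hs2⟩, hr, e⟩ := RankOne.exists_structure K.setup
  refine ⟨s, r, hsA, hs1, hs2, hr, fun hr2 => ?_, e⟩
  obtain ⟨-, hsc⟩ := K.central s hsA hs1 hs2
  have hri : r⁻¹ = r := inv_eq_of_mul_eq_one_right hr2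
  have hsi : s⁻¹ = s := inv_eq_of_mul_eq_one_right hs2
  have hrs : r * s = s * r := (hsc r hr).symm
  have htst : t * s * t = r * t * r := by rw [e, hri]
  have h1 : r * (t * s * t) * r = t := by
    calc r * (t * s * t) * r = (r * r) * t * (r * r) := by rw [htst]; group
      _ = t := by rw [hr2, one_mul, mul_one]
  have hbraid : t * s * t = s * t * s := by
    have hx : r * (t * s * (t * s)) * r = t * s := by
      calc r * (t * s * (t * s)) * r = r * (t * s * t) * (s * r) := by group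
        _ = r * (t * s * t) * r * s := by rw [← hrs]; group
        _ = t * s := by rw [h1]
    have hxx : t * s * (t * s) = r * (t * s) * r := by
      calc t * s * (t * s) = (r * r) * (t * s * (t * s)) * (r * r) := by rw [hr2]; group
        _ = r * (r * (t * s * (t * s)) * r) * r := by group
        _ = r * (t * s) * r := by rw [hx]
    have h4 : t * s * (t * s) * (t * s * (t * s)) = t * s := by
      calc t * s * (t * s) * (t * s * (t * s)) = r * (t * s) * (r * r) * (t * s) * r := by rw [hxx]; group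
        _ = r * (t * s * (t * s)) * r := by rw [hr2]; group
        _ = t * s := hx
    have h3 : t * s * (t * s) * (t * s) = 1 := by
      calc t * s * (t * s) * (t * s) = (t * s * (t * s) * (t * s * (t * s))) * (t * s)⁻¹ := by group
        _ = 1 := by rw [h4, mul_inv_cancel]
    calc t * s * t = (t * s * (t * s) * (t * s)) * (s⁻¹ * t⁻¹ * s⁻¹) := by group
      _ = s * t * s := by rw [h3, one_mul, hsi, K.t_inv]
  obtain ⟨L, hL⟩ := K.exists_line hsA hs1 hs2 hbraid
  have hdvd := Subgroup.card_subgroup_dvd_card L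
  rw [K.card_line hL, K.card_group, hn] at hdvd
  have hdvd2 : q + 1 ∣ q ^ 2 * (q - 1) * (q ^ 2 + 1) := (dvd_mul_left _ _).trans hdvd
  have hq : 4 ≤ q := by
    obtain ⟨k, hk, rfl⟩ := K.two_pow
    exact le_trans (by norm_num) (Nat.pow_le_pow_right (by omega) hk)
  have h2z : ((q : ℤ) + 1) ∣ 4 := by
    have h := Int.natCast_dvd_natCast.2 hdvd2
    push_cast [Nat.cast_sub (show 1 ≤ q by omega)] at h
    obtain ⟨d, hd⟩ := h
    exact ⟨((q : ℤ) ^ 4 - 2 * (q : ℤ) ^ 3 + 3 * (q : ℤ) ^ 2 - 4 * q + 4) - d,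
      by linear_combination -hd⟩
  have := Int.le_of_dvd (by norm_num) h2z
  omega

/-- Elements of the pair stabiliser with the same action on an involution of the kernel coincide. -/
theorem eq_of_conj_eq [Finite G] (K : KernelData G Ω a t Q n q) {d e z : G}
    (hd : d ∈ stabilizer G a ⊓ stabilizer G (t • a)) (he : e ∈ stabilizer G a ⊓ stabilizer G (t • a))
    (hz : z ∈ Q) (hz1 : z ≠ 1) (h : d * z * d⁻¹ = e * z * e⁻¹) : d = e := by
  have hc : (e⁻¹ * d) * z = z * (e⁻¹ * d) := by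
    calc (e⁻¹ * d) * z = e⁻¹ * (d * z * d⁻¹) * d := by group
      _ = _ := by rw [h]; group
  have hm := mul_mem (inv_mem he) hd
  haveI := RankOne.finite_points K.setup
  have := fpf_kernel K.zass (RankOne.ta_ne K.setup).symm (K.setup.le hz) (K.fix z hz hz1)
    (Subgroup.mem_inf.1 hm).1 (Subgroup.mem_inf.1 hm).2 hc
  exact (inv_mul_eq_one.1 this).symm

/-- Conjugation of the kernel by the pair stabiliser. -/
def conjHom [Finite G] (K : KernelData G Ω a t Q n q) :
    ↥(stabilizer G a ⊓ stabilizer G (t • a)) →* MulAut Q where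
  toFun d :=
    { toFun := fun x => ⟨(d : G) * x * (d : G)⁻¹, RankOne.D_norm_Q K.setup d.2 x.2⟩
      invFun := fun x => ⟨(d : G)⁻¹ * x * (d : G), by
        simpa using RankOne.D_norm_Q K.setup (inv_mem d.2) x.2⟩
      left_inv := fun x => Subtype.ext (by simp [mul_assoc])
      right_inv := fun x => Subtype.ext (by simp [mul_assoc])
      map_mul' := fun x y => Subtype.ext (by simp [mul_assoc]) }
  map_one' := by ext x; simp
  map_mul' d e := by ext x; simp [mul_assoc]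

theorem conjHom_apply [Finite G] (K : KernelData G Ω a t Q n q) (d : ↥(stabilizer G a ⊓ stabilizer G (t • a)))
    (x : Q) : ((conjHom K d x : Q) : G) = (d : G) * x * (d : G)⁻¹ := rfl

theorem setting_range [Finite G] (K : KernelData G Ω a t Q n q)
    (hcyc : IsCyclic ↥(stabilizer G a ⊓ stabilizer G (t • a))) (hsuz : Cfsg.IsSuzukiTwoGroup Q) :
    SuzukiTwoGroup.Setting (conjHom K).range where
  finite := inferInstance
  two := K.two_group
  comm := by
    rintro ⟨_, d, rfl⟩ ⟨_, e, rfl⟩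
    haveI := hcyc
    letI := IsCyclic.commGroup (α := ↥(stabilizer G a ⊓ stabilizer G (t • a)))
    exact Subtype.ext (show conjHom K d * conjHom K e = conjHom K e * conjHom K d by
      rw [← map_mul, ← map_mul, mul_comm])
  regular := by
    intro u v hu1 hu2 hv1 hv2
    have hu : (u : G) ∈ Cfsg.involutionsIn (stabilizer G a : Set G) :=
      ⟨K.setup.le u.2, fun e => hu1 (Subtype.ext e), congrArg Subtype.val hu2⟩
    have hv : (v : G) ∈ Cfsg.involutionsIn (stabilizer G a : Set G) :=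
      ⟨K.setup.le v.2, fun e => hv1 (Subtype.ext e), congrArg Subtype.val hv2⟩
    obtain ⟨k, hk, e⟩ := RankOne.conj_inverted_surjective K.setup hu hv
    have hkD : k ∈ stabilizer G a ⊓ stabilizer G (t • a) := ((RankOne.mem_inverted_iff K.setup).1 hk).1
    refine ⟨⟨conjHom K ⟨k⁻¹, inv_mem hkD⟩, ⟨_, rfl⟩⟩, Subtype.ext ?_, ?_⟩
    · show k⁻¹ * (u : G) * k⁻¹⁻¹ = v
      rw [inv_inv]
      exact e
    · rintro ⟨_, d, rfl⟩ hd
      refine Subtype.ext (congrArg (conjHom K) (Subtype.ext ?_))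
      refine eq_of_conj_eq K d.2 (inv_mem hkD) u.2 hu.2.1 ?_
      rw [← conjHom_apply K, show conjHom K d u = v from hd, inv_inv]
      exact e.symm
  exists_two := hsuz.2.2.2.1
  center_sq := SuzukiTwoGroup.center_sq hsuz
  not_comm := hsuz.2.2.1

/-- Coordinates for the group. -/
theorem exists_sdata [Finite G] (K : KernelData G Ω a t Q n q)
    (hcyc : IsCyclic ↥(stabilizer G a ⊓ stabilizer G (t • a))) (hsuz : Cfsg.IsSuzukiTwoGroup Q)
    (hz : Nat.card (Subgroup.center Q) = q) (hn : n = q ^ 2) :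
    ∃ (F : Type) (_ : Field F) (_ : Fintype F) (_ : CharP F 2),
      Fintype.card F = q ∧ Nonempty (SData G Ω a F) := by
  classical
  obtain ⟨s, r, hsA, hs1, hs2, hr, hr2, e⟩ := exists_structure_not_sq K hn
  obtain ⟨hsQ, -⟩ := K.central s hsA hs1 hs2
  have hrc : (⟨r⁻¹, inv_mem hr⟩ : Q) ∉ Subgroup.center Q := fun h => hr2 (by
    have h' := congrArg Subtype.val (SuzukiTwoGroup.center_sq hsuz _ h)
    have h'' : r⁻¹ * r⁻¹ = 1 := h'
    rw [← inv_inv (r * r), mul_inv_rev, h'', inv_one])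
  obtain ⟨F, fF, fT, cP, hF, ⟨C⟩⟩ := exists_coord (setting_range K hcyc hsuz)
    (by rw [hz, K.card_Q, hn]) hrc
  refine ⟨F, fF, fT, cP, hF.trans hz, ?_⟩
  have h00 : C.M 0 0 = 1 := by
    have h := C.mul 0 0 0 0
    simp only [map_zero, add_zero, mul_zero] at h
    exact mul_eq_left.1 h
  obtain ⟨⟨sa, sb⟩, hsab⟩ := C.bij.2 ⟨s, hsQ⟩
  have hsM : C.M sa sb = ⟨s, hsQ⟩ := hsab
  have hsa : sa = 0 := by
    have h := C.mul sa sb sa sb
    rw [hsM, show (⟨s, hsQ⟩ : Q) * ⟨s, hsQ⟩ = 1 from Subtype.ext hs2, ← h00] at h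
    have h' := congrArg Prod.snd (C.bij.1 (a₁ := (0, 0)) (a₂ := (_, _)) h)
    simp only [CharTwo.add_self_eq_zero, zero_add] at h'
    have h'' : C.φ sa * sa = 0 := by linear_combination -h' - (C.β * C.φ sa * sa) * (CharTwo.two_eq_zero : (2 : F) = 0)
    simpa using h''
  subst hsa
  have hsb : sb ≠ 0 := fun h => hs1 (by
    have := congrArg Subtype.val hsM
    rw [h, h00] at this
    exact this.symm)
  have hex : ∀ c : F, ∃ d : G, c ≠ 0 → d ∈ stabilizer G a ⊓ stabilizer G (t • a) ∧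
      ∀ x y : F, d * (C.M x y : G) * d⁻¹ = (C.M (c * x) (c * C.φ c * y) : G) := by
    intro c
    by_cases hc : c = 0
    · exact ⟨1, fun h => absurd hc h⟩
    obtain ⟨⟨_, d, rfl⟩, hk⟩ := C.surj c hc
    exact ⟨d, fun _ => ⟨d.2, fun x y => by rw [← conjHom_apply K, hk x y]⟩⟩
  choose δ hδ using hex
  have hne : (C.M 0 1 : G) ≠ 1 := fun h => by
    have := C.bij.1 (a₁ := ((0 : F), (1 : F))) (a₂ := (0, 0)) ((Subtype.ext h).trans h00.symm)
    simp at this
  have huniq : ∀ {d : G} {c : F}, c ≠ 0 → d ∈ stabilizer G a ⊓ stabilizer G (t • a) →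
      d * (C.M 0 1 : G) * d⁻¹ = (C.M (c * 0) (c * C.φ c * 1) : G) → d = δ c :=
    fun {d c} hc hd h => eq_of_conj_eq K hd (hδ c hc).1 (C.M 0 1).2 hne (h.trans ((hδ c hc).2 0 1).symm)
  have hmul : ∀ c d, c ≠ 0 → d ≠ 0 → δ (c * d) = δ c * δ d := fun c d hc hd => by
    refine (huniq (mul_ne_zero hc hd) (mul_mem (hδ c hc).1 (hδ d hd).1) ?_).symm
    rw [mul_inv_rev, show δ c * δ d * (C.M 0 1 : G) * ((δ d)⁻¹ * (δ c)⁻¹) =
      δ c * (δ d * (C.M 0 1 : G) * (δ d)⁻¹) * (δ c)⁻¹ by group, (hδ d hd).2, (hδ c hc).2]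
    congr 2
    · ring
    · rw [map_mul]; ring
  refine ⟨{
    t := t
    φ := C.φ
    β := C.β
    cs := sb
    el := fun p => (C.M p.1 p.2 : G)
    δ := δ
    mul_self := K.setup.mul_self
    not_fix := K.setup.not_mem
    el_mul := fun p p' => by rw [← Subgroup.coe_mul, C.mul]; rfl
    el_fix := fun p => mem_stabilizer_iff.1 (K.setup.le (C.M p.1 p.2).2)
    el_inj := fun p p' h =>
      C.bij.1 (Subtype.ext (RankOne.Q_smul_inj K.setup (C.M p.1 p.2).2 (C.M p'.1 p'.2).2 h))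
    el_surj := fun w hw => by
      obtain ⟨x, hx, hxw⟩ := RankOne.exists_Q_smul K.setup hw
      obtain ⟨p, hp⟩ := C.bij.2 ⟨x, hx⟩
      exact ⟨p, by rw [show (C.M p.1 p.2 : G) = x from congrArg Subtype.val hp]; exact hxw⟩
    δ_fix := fun c hc => ⟨(Subgroup.mem_inf.1 (hδ c hc).1).1, (Subgroup.mem_inf.1 (hδ c hc).1).2⟩
    δ_mul := hmul
    δ_el := fun c p hc => by
      show δ c * (C.M p.1 p.2 : G) = (C.M (c * p.1) (c * C.φ c * p.2) : G) * δ c
      rw [← (hδ c hc).2, inv_mul_cancel_right]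
    δ_t := fun c hc => ?_
    δ_surj := fun g h1 h2 => ?_
    psi_injective := C.psi_injective
    cs_ne := hsb
    structure_eq := ?_ }⟩
  · have h1 : δ c * δ c⁻¹ = δ 1 := by rw [← hmul c c⁻¹ hc (inv_ne_zero hc), mul_inv_cancel₀ hc]
    have h11 : δ 1 = 1 := by
      have := hmul 1 1 one_ne_zero one_ne_zero
      rw [mul_one] at this
      exact mul_eq_left.1 this.symm
    rw [show δ c⁻¹ = (δ c)⁻¹ from (inv_eq_of_mul_eq_one_right (h1.trans h11)).symm,
      ← K.inverts _ (hδ c hc).1, mul_assoc (t * δ c), K.setup.mul_self, mul_one]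
  · obtain ⟨c, hc, hk⟩ := C.act ⟨conjHom K ⟨g, Subgroup.mem_inf.2 ⟨h1, h2⟩⟩, ⟨_, rfl⟩⟩
    exact ⟨c, hc, huniq hc (Subgroup.mem_inf.2 ⟨h1, h2⟩)
      (congrArg Subtype.val (hk 0 1))⟩
  · show t * (C.M 0 sb : G) * t = (C.M 1 0 : G) * t * (C.M 1 0 : G)⁻¹
    rw [hsM, C.base]
    show t * s * t = r⁻¹ * t * r⁻¹⁻¹
    rw [inv_inv, e]

/-- A simple Zassenhaus group with a non-abelian 2-group as point kernel is a Suzuki group. -/
theorem isoSuzuki {G Ω : Type*} [Group G] [Finite G] [MulAction G Ω] [Finite Ω]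
    (hZ : Cfsg.IsZassenhausGroup G Ω) [IsSimpleGroup G] {a : Ω} (U : Subgroup G)
    (hUle : U ≤ MulAction.stabilizer G a)
    (_hUn : ∀ h ∈ MulAction.stabilizer G a, ∀ u ∈ U, h * u * h⁻¹ ∈ U)
    (hreg : ∀ c d : Ω, c ≠ a → d ≠ a → ∃! u : U, (u : G) • c = d)
    (hU2 : IsPGroup 2 U) (hUna : ∃ u ∈ U, ∃ v ∈ U, u * v ≠ v * u) :
    Cfsg.Lie.IsoSuzuki G := by
  obtain ⟨t, N, q, K, hcyc, -, hz, hsuz⟩ := exists_kernelData hZ hUle hreg hU2
    (let ⟨u, hu, v, hv, h⟩ := hUna; ⟨⟨u, hu⟩, ⟨v, hv⟩, fun e => h (congrArg Subtype.val e)⟩)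
  obtain ⟨hn, m, hm, hq⟩ := K.suzuki_order
  obtain ⟨F, fF, fT, cP, hF, ⟨S⟩⟩ := exists_sdata K hcyc hsuz hz hn
  haveI : FaithfulSMul G Ω := hZ.1
  exact S.isoSuzuki hm (hF.trans hq)

end CfsgLib.SuzukiUnique
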