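import Mathlib

/-!
A symmetric two-cocycle with zero diagonal on an elementary abelian 2-group is a coboundary.
-/

set_option autoImplicit false

namespace CfsgLib.SuzukiUnique

variable {V W : Type*} [AddCommGroup V] [AddCommGroup W]

theorem exists_coboundary [Finite V] (hV : ∀ x : V, x + x = 0) (hW : ∀ x : W, x + x = 0)
    (κ : V → V → W) (h0 : ∀ x, κ 0 x = 0) (hsymm : ∀ x y, κ x y = κ y x) (hdiag : ∀ x, κ x x = 0)
    (hassoc : ∀ x y z, κ x y + κ (x + y) z = κ y z + κ x (y + z)) :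
    ∃ L : V → W, ∀ x y, κ x y = L x + L y + L (x + y) := by
  classical
  have hswap : ∀ a b c : W, a + b = c → a = c + b := fun a b c h => by
    rw [← h, add_assoc, hW, add_zero]
  set S : Set (AddSubgroup V) :=
    {U | ∃ L : V → W, L 0 = 0 ∧ ∀ x ∈ U, ∀ y ∈ U, κ x y = L x + L y + L (x + y)} with hS
  have hbot : (⊥ : AddSubgroup V) ∈ S := ⟨fun _ => 0, rfl, fun x hx y hy => by
    rw [AddSubgroup.mem_bot] at hx hy
    rw [hx, hy, h0, add_zero, add_zero]⟩
  obtain ⟨U, hU⟩ := (Set.toFinite S).exists_maximal ⟨⊥, hbot⟩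
  obtain ⟨L, hL0, hL⟩ := hU.1
  suffices htop : ∀ v, v ∈ U from ⟨L, fun x y => hL x (htop x) y (htop y)⟩
  intro v
  by_contra hv
  have hnot : ∀ w ∈ U, v + w ∉ U := fun w hw h => hv (by
    have h' := U.sub_mem h hw
    rwa [add_sub_cancel_right] at h')
  let U' : AddSubgroup V :=
    { carrier := {x | x ∈ U ∨ v + x ∈ U}
      zero_mem' := Or.inl U.zero_mem
      add_mem' := fun {x y} hx hy => by
        rcases hx with hx | hx <;> rcases hy with hy | hy
        · exact Or.inl (U.add_mem hx hy)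
        · exact Or.inr (by rw [add_left_comm]; exact U.add_mem hx hy)
        · exact Or.inr (by rw [← add_assoc]; exact U.add_mem hx hy)
        · refine Or.inl ?_
          have := U.add_mem hx hy
          rwa [add_add_add_comm, hV, zero_add] at this
      neg_mem' := fun {x} hx => by rwa [show -x = x from neg_eq_of_add_eq_zero_left (hV x)] }
  refine hv (hU.2 (y := U') ?_ (fun x hx => Or.inl hx) (Or.inr (by rw [hV]; exact U.zero_mem)))
  refine ⟨fun x => if x ∈ U then L x else L (v + x) + κ v (v + x), by simp [hL0], ?_⟩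
  have hvv : ∀ w, v + (v + w) = w := fun w => by rw [← add_assoc, hV, zero_add]
  -- the value on the new coset
  have hval : ∀ w ∈ U, (if v + w ∈ U then L (v + w) else L (v + (v + w)) + κ v (v + (v + w))) =
      L w + κ v w := fun w hw => by rw [if_neg (hnot w hw), hvv]
  have hmixed : ∀ w₁ ∈ U, ∀ w₂ ∈ U,
      κ w₁ (v + w₂) = L w₁ + (L w₂ + κ v w₂) + (L (w₁ + w₂) + κ v (w₁ + w₂)) := by
    intro w₁ h₁ w₂ h₂
    have h := hassoc v w₂ w₁
    rw [hsymm w₂ w₁, hsymm (v + w₂) w₁, add_comm w₂ w₁, hL w₁ h₁ w₂ h₂, add_comm (κ v w₂)] at h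
    rw [hswap _ _ _ h]
    abel
  intro x hx y hy
  rcases hx with hx | hx <;> rcases hy with hy | hy
  · simp only [if_pos hx, if_pos hy, if_pos (U.add_mem hx hy)]
    exact hL x hx y hy
  · obtain ⟨w₂, hw, rfl⟩ : ∃ w ∈ U, y = v + w := ⟨v + y, hy, (hvv y).symm⟩
    simp only [if_pos hx, hval w₂ hw]
    rw [add_left_comm x v w₂, hval _ (U.add_mem hx hw)]
    exact hmixed x hx w₂ hw
  · obtain ⟨w₁, hw, rfl⟩ : ∃ w ∈ U, x = v + w := ⟨v + x, hx, (hvv x).symm⟩
    simp only [if_pos hy, hval w₁ hw]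
    rw [add_assoc v w₁ y, hval _ (U.add_mem hw hy), hsymm, hmixed y hy w₁ hw, add_comm y w₁]
    abel
  · obtain ⟨w₁, hw₁, rfl⟩ : ∃ w ∈ U, x = v + w := ⟨v + x, hx, (hvv x).symm⟩
    obtain ⟨w₂, hw₂, rfl⟩ : ∃ w ∈ U, y = v + w := ⟨v + y, hy, (hvv y).symm⟩
    simp only [hval w₁ hw₁, hval w₂ hw₂]
    rw [show v + w₁ + (v + w₂) = w₁ + w₂ by rw [add_add_add_comm, hV, zero_add],
      if_pos (U.add_mem hw₁ hw₂)]
    have h1 : κ v (v + w₂) = κ v w₂ := by
      have h := hassoc v v w₂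
      rw [hdiag, hV, h0, zero_add] at h
      exact (hswap _ _ _ ((add_comm (κ v (v + w₂)) (κ v w₂)).trans h.symm)).trans (zero_add _)
    have h := hassoc w₁ v (v + w₂)
    rw [hvv, h1, add_comm (κ w₁ v), hL w₁ hw₁ w₂ hw₂, add_comm w₁ v, hsymm w₁ v] at h
    rw [hswap _ _ _ h]
    abel

end CfsgLib.SuzukiUnique
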