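import Cfsg.Agent.SuzukiTwoGroup.TypeA
import Cfsg.Agent.SuzukiUnique.Coboundary

/-!
Coordinates on a Suzuki 2-group of order `q²` at a base point of order four, equivariant for the
automorphism group that is regular on the involutions.
-/

set_option autoImplicit false
set_option linter.unusedSectionVars false
set_option linter.style.haveILetI false
set_option maxHeartbeats 1000000

namespace CfsgLib.SuzukiUnique

open scoped commutatorElement
open CfsgLib.SuzukiTwoGroup

/-- Equivariant coordinates `M : F × F ≃ P` with `M 1 0 = r`. -/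
structure Coord {P : Type*} [Group P] (K : Subgroup (MulAut P)) (r : P) (F : Type) [Field F] where
  φ : F ≃+* F
  β : F
  M : F → F → P
  bij : Function.Bijective fun p : F × F => M p.1 p.2
  mul : ∀ a b c d, M a b * M c d = M (a + c) (b + d + ((1 + β) * (φ a * c) + β * (a * φ c)))
  base : M 1 0 = r
  psi_injective : Function.Injective fun x => x * φ x
  act : ∀ k : K, ∃ c : F, c ≠ 0 ∧ ∀ a b, (k : MulAut P) (M a b) = M (c * a) (c * φ c * b)
  surj : ∀ c : F, c ≠ 0 → ∃ k : K, ∀ a b, (k : MulAut P) (M a b) = M (c * a) (c * φ c * b)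

universe w

theorem exists_coord {P : Type w} [Group P] {K : Subgroup (MulAut P)} (hS : Setting K)
    (hcard : Nat.card P = Nat.card (Subgroup.center P) ^ 2) {r : P} (hr : r ∉ Subgroup.center P) :
    ∃ (F : Type) (_ : Field F) (_ : Fintype F) (_ : CharP F 2),
      Fintype.card F = Nat.card (Subgroup.center P) ∧ Nonempty (Coord K r F) := by
  classical
  haveI := hS.finite
  haveI : Fact (Nat.Prime 2) := ⟨Nat.prime_two⟩
  set Z := Subgroup.center P with hZ
  have hcm : ∀ {c : P}, c ∈ Z → ∀ g : P, c * g = g * c := fun hc g => (Subgroup.mem_center_iff.1 hc g).symm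
  have hq : Nat.card (P ⧸ Z) = Nat.card Z := by
    have h := Subgroup.card_eq_card_quotient_mul_card_subgroup Z
    rw [hcard, pow_two] at h
    exact (Nat.eq_of_mul_eq_mul_right Nat.card_pos h).symm
  letI : CommGroup Z := { (inferInstance : Group Z) with
    mul_comm := fun x y => Subtype.ext (hcm x.2 y) }
  letI : CommGroup (P ⧸ Z) := { (inferInstance : Group (P ⧸ Z)) with
    mul_comm := fun x y => by
      obtain ⟨x, rfl⟩ := QuotientGroup.mk'_surjective Z x
      obtain ⟨y, rfl⟩ := QuotientGroup.mk'_surjective Z y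
      rw [← commutatorElement_eq_one_iff_mul_comm, ← map_commutatorElement]
      exact (QuotientGroup.eq_one_iff _).2 (hS.commutator_mem_center x y) }
  have hkZ : ∀ (k : K), Z.map ((k : MulAut P) : P →* P) = Z := fun k =>
    Subgroup.characteristic_iff_map_eq.1 inferInstance _
  -- the two modules
  let ρZ : K →* AddMonoid.End (Additive Z) :=
    { toFun := fun k => MonoidHom.toAdditive
        (((k : MulAut P).toMonoidHom.comp Z.subtype).codRestrict Z fun z => hS.act_center k z.2)
      map_one' := by ext u; simp; rfl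
      map_mul' := fun k l => by ext u; simp; rfl }
  let ρV : K →* AddMonoid.End (Additive (P ⧸ Z)) :=
    { toFun := fun k => MonoidHom.toAdditive (QuotientGroup.congr Z Z (k : MulAut P) (hkZ k)).toMonoidHom
      map_one' := by
        refine AddMonoidHom.ext fun v => ?_
        obtain ⟨x, hx⟩ := QuotientGroup.mk'_surjective Z v.toMul
        have hv : v = Additive.ofMul (QuotientGroup.mk' Z x) := hx.symm
        subst hv
        rfl
      map_mul' := fun k l => by
        refine AddMonoidHom.ext fun v => ?_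
        obtain ⟨x, hx⟩ := QuotientGroup.mk'_surjective Z v.toMul
        have hv : v = Additive.ofMul (QuotientGroup.mk' Z x) := hx.symm
        subst hv
        rfl }
  have hρV : ∀ (k : K) (x : P), ρV k (Additive.ofMul (QuotientGroup.mk' Z x)) =
      Additive.ofMul (QuotientGroup.mk' Z ((k : MulAut P) x)) := fun k x => rfl
  have hρZ : ∀ (k : K) v, ((ρZ k v).toMul : P) = (k : MulAut P) (v.toMul : P) := fun k v => rfl
  have h2Z : ∀ v : Additive Z, v + v = 0 := fun v =>
    Additive.toMul.injective (Subtype.ext (hS.center_sq _ v.toMul.2))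
  have h2V : ∀ v : Additive (P ⧸ Z), v + v = 0 := fun v => by
    obtain ⟨x, hx⟩ := QuotientGroup.mk'_surjective Z v.toMul
    apply Additive.toMul.injective
    show v.toMul * v.toMul = 1
    rw [← hx, ← map_mul]
    exact (QuotientGroup.eq_one_iff _).2 (hS.sq_mem_center x)
  have htrZ : ∀ v w : Additive Z, v ≠ 0 → w ≠ 0 → ∃ k, ρZ k v = w := fun v w hv hw => by
    obtain ⟨k, hk, -⟩ := hS.regular v.toMul w.toMul
      (fun h => hv (Additive.toMul.injective (Subtype.ext h))) (hS.center_sq _ v.toMul.2)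
      (fun h => hw (Additive.toMul.injective (Subtype.ext h))) (hS.center_sq _ w.toMul.2)
    exact ⟨k, Additive.toMul.injective (Subtype.ext hk)⟩
  -- squaring
  let Q : Additive (P ⧸ Z) → Additive Z := fun v =>
    Additive.ofMul ⟨v.toMul.out * v.toMul.out, hS.sq_mem_center _⟩
  have hQmk : ∀ x : P, ((Q (Additive.ofMul (QuotientGroup.mk' Z x))).toMul : P) = x * x := by
    intro x
    obtain ⟨⟨c, hc⟩, hc'⟩ := QuotientGroup.mk_out_eq_mul Z x
    show ((x : P ⧸ Z).out) * (x : P ⧸ Z).out = x * x
    rw [hc']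
    calc x * c * (x * c) = x * (c * x) * c := by group
      _ = x * x * (c * c) := by rw [hcm hc x]; group
      _ = x * x := by rw [hS.center_sq c hc, mul_one]
  have hQk : ∀ k v, Q (ρV k v) = ρZ k (Q v) := by
    intro k v
    obtain ⟨x, hx⟩ := QuotientGroup.mk'_surjective Z v.toMul
    have hv : v = Additive.ofMul (QuotientGroup.mk' Z x) := hx.symm
    subst hv
    apply Additive.toMul.injective
    apply Subtype.ext
    rw [hρV, hQmk, hρZ, hQmk, map_mul]
  have hQ0 : ∀ v, Q v = 0 → v = 0 := by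
    intro v hv
    obtain ⟨x, hx⟩ := QuotientGroup.mk'_surjective Z v.toMul
    have hv' : v = Additive.ofMul (QuotientGroup.mk' Z x) := hx.symm
    subst hv'
    have := hQmk x
    rw [hv] at this
    exact congrArg Additive.ofMul ((QuotientGroup.eq_one_iff x).2 (hS.mem_center this.symm))
  have htrV : ∀ v w : Additive (P ⧸ Z), v ≠ 0 → w ≠ 0 → ∃ k, ρV k v = w := by
    intro v w hv hw
    obtain ⟨k, hk⟩ := htrZ (Q v) (Q w) (fun h => hv (hQ0 v h)) (fun h => hw (hQ0 w h))
    refine ⟨k, ?_⟩
    have hQzero : Q 0 = 0 := by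
      apply Additive.toMul.injective
      apply Subtype.ext
      have := hQmk 1
      rw [map_one, mul_one] at this
      exact this
    have hsurj : Function.Surjective Q := by
      intro u
      by_cases hu : u = 0
      · exact ⟨0, hu ▸ hQzero⟩
      obtain ⟨l, hl⟩ := htrZ (Q v) u (fun h => hv (hQ0 v h)) hu
      exact ⟨ρV l v, by rw [hQk, hl]⟩
    have hbij : Function.Bijective Q :=
      Function.Surjective.bijective_of_nat_card_le hsurj (le_of_eq hq)
    exact hbij.1 (by rw [hQk, hk])
  -- base points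
  set vV : Additive (P ⧸ Z) := Additive.ofMul (QuotientGroup.mk' Z r) with hvV
  have hvV0 : vV ≠ 0 := fun h => hr ((QuotientGroup.eq_one_iff r).1 h)
  obtain ⟨F₁, iF₁, iN₁, iC₁, Φ₁, χ₁, hΦ11, hΦ1, hχ1⟩ := exists_field h2V hS.comm ρV htrV hvV0
  obtain ⟨F₂, iF₂, iN₂, iC₂, Φ₂, χ₂, hΦ21, hΦ2, -⟩ :=
    exists_field h2Z hS.comm ρZ htrZ (m := Q vV) fun h => hvV0 (hQ0 _ h)
  obtain ⟨n, hn⟩ := IsPGroup.iff_card.1 (hS.two.to_subgroup Z)
  have hn0 : n ≠ 0 := fun h => by
    obtain ⟨x, -, -, hx1, hx2, -⟩ := hS.exists_two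
    rw [h, pow_zero] at hn
    haveI := (Nat.card_eq_one_iff_unique.1 hn).1
    exact hx1 (congrArg Subtype.val (Subsingleton.elim (⟨x, hS.mem_center hx2⟩ : Z) 1))
  set F := GaloisField 2 n
  haveI : Fintype F := Fintype.ofFinite F
  have hcardF : Fintype.card F = Nat.card Z := by
    rw [← Nat.card_eq_fintype_card, GaloisField.card 2 n hn0, hn]
  have hc1 : Fintype.card F₁ = Fintype.card F := by
    rw [hcardF, ← hq, ← Nat.card_eq_fintype_card]
    exact (Nat.card_congr Φ₁.toEquiv).trans (Nat.card_congr Additive.toMul)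
  have hc2 : Fintype.card F₂ = Fintype.card F := by
    rw [hcardF, ← Nat.card_eq_fintype_card]
    exact (Nat.card_congr Φ₂.toEquiv).trans (Nat.card_congr Additive.toMul)
  set ι₁ := FiniteField.ringEquivOfCardEq hc1 with hι₁
  set ι₂ := FiniteField.ringEquivOfCardEq hc2 with hι₂
  let A : F ≃+ Additive (P ⧸ Z) := ι₁.symm.toAddEquiv.trans Φ₁
  let B : F ≃+ Additive Z := ι₂.symm.toAddEquiv.trans Φ₂
  let q : F → F := fun x => B.symm (Q (A x))
  have hq1 : q 1 = 1 := by
    show ι₂ (Φ₂.symm (Q (Φ₁ (ι₁.symm 1)))) = 1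
    rw [map_one ι₁.symm, hΦ11, ← hΦ21, Φ₂.symm_apply_apply, map_one]
  have hqmul : ∀ x y, q (x * y) = q x * q y := by
    intro x y
    by_cases hx : x = 0
    · have hQzero : Q 0 = 0 := by
        apply Additive.toMul.injective
        apply Subtype.ext
        have := hQmk 1
        rw [map_one, mul_one] at this
        exact this
      have hq0 : q 0 = 0 := by show B.symm (Q (A 0)) = 0; rw [map_zero, hQzero, map_zero]
      rw [hx, zero_mul, hq0, zero_mul]
    obtain ⟨k, hk⟩ := hχ1 (ι₁.symm x) (by simpa using hx)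
    have hA : ∀ y, A (x * y) = ρV k (A y) := fun y => by
      show Φ₁ (ι₁.symm (x * y)) = ρV k (Φ₁ (ι₁.symm y))
      rw [map_mul, ← hk, hΦ1]
    have hqk : ∀ y, q (x * y) = ι₂ (χ₂ k) * q y := fun y => by
      show ι₂ (Φ₂.symm (Q (A (x * y)))) = ι₂ (χ₂ k) * ι₂ (Φ₂.symm (Q (A y)))
      rw [hA, hQk, ← map_mul ι₂]
      congr 1
      rw [Φ₂.symm_apply_eq, hΦ2, Φ₂.apply_symm_apply]
    rw [hqk, show q x = ι₂ (χ₂ k) by
      have := hqk 1
      rwa [hq1, mul_one, mul_one] at this]
  -- the polar form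
  have hQmul : ∀ x y : P, x * y * (x * y) = x * x * (y * y) * ⁅x, y⁆ := by
    intro x y
    have hyx : ⁅y, x⁆ = ⁅x, y⁆ := by
      rw [← commutatorElement_inv x y]
      exact inv_eq_of_mul_eq_one_right (hS.center_sq _ (hS.commutator_mem_center x y))
    calc x * y * (x * y) = x * (⁅y, x⁆ * (x * y)) * y := by simp only [commutatorElement_def]; group
      _ = ⁅y, x⁆ * (x * (x * y) * y) := by
          rw [← mul_assoc x, ← hcm (hS.commutator_mem_center y x) x]; group
      _ = _ := by rw [hcm (hS.commutator_mem_center y x), hyx]; group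
  have hlift : ∀ v : F, ∃ p : P, A v = Additive.ofMul (QuotientGroup.mk' Z p) := fun v => by
    obtain ⟨p, hp⟩ := QuotientGroup.mk'_surjective Z (A v).toMul
    exact ⟨p, congrArg Additive.ofMul hp.symm⟩
  have hpolar : ∀ (v w : F) (p r : P), A v = Additive.ofMul (QuotientGroup.mk' Z p) →
      A w = Additive.ofMul (QuotientGroup.mk' Z r) →
      B (q (v + w) + q v + q w) = Additive.ofMul ⟨⁅p, r⁆, hS.commutator_mem_center p r⟩ := by
    intro v w p r hp hr
    simp only [map_add, q, B.apply_symm_apply, hp, hr, ← ofMul_mul, ← map_mul]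
    apply Additive.toMul.injective
    apply Subtype.ext
    simp only [toMul_add, Subgroup.coe_mul, hQmk, hQmul, toMul_ofMul]
    have hp2 := hS.sq_mem_center p
    have hr2 := hS.sq_mem_center r
    have hc := hS.commutator_mem_center p r
    calc p * p * (r * r) * ⁅p, r⁆ * (p * p) * (r * r)
        = p * p * ((r * r) * ⁅p, r⁆ * (p * p)) * (r * r) := by group
      _ = p * p * ((p * p) * ((r * r) * ⁅p, r⁆)) * (r * r) := by rw [hcm hp2 ((r * r) * ⁅p, r⁆)]
      _ = (p * p * (p * p)) * ((r * r) * ⁅p, r⁆ * (r * r)) := by group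
      _ = (r * r) * ⁅p, r⁆ * (r * r) := by rw [hS.center_sq _ hp2, one_mul]
      _ = ⁅p, r⁆ * ((r * r) * (r * r)) := by rw [hcm hr2 ⁅p, r⁆]; group
      _ = ⁅p, r⁆ := by rw [hS.center_sq _ hr2, mul_one]
  have hthird : ∀ x y z : F, q (x + y + z) + q (x + y) + q (x + z) + q (y + z) + q x + q y + q z = 0 := by
    intro x y z
    obtain ⟨px, hx⟩ := hlift x
    obtain ⟨py, hy⟩ := hlift y
    obtain ⟨pz, hz⟩ := hlift z
    have h1 := hpolar (x + y) z (px * py) pz (by rw [map_add, hx, hy, map_mul]; rfl) hz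
    have h2 := hpolar x z px pz hx hz
    have h3 := hpolar y z py pz hy hz
    apply B.injective
    rw [map_zero, show q (x + y + z) + q (x + y) + q (x + z) + q (y + z) + q x + q y + q z =
      (q (x + y + z) + q (x + y) + q z) + ((q (x + z) + q x + q z) + (q (y + z) + q y + q z)) by
        linear_combination -(q z) * (CharTwo.two_eq_zero (R := F)), map_add B (_ + _ + q z), map_add B
          (q (x + z) + q x + q z), h1, h2, h3]
    apply Additive.toMul.injective
    apply Subtype.ext
    show ⁅px * py, pz⁆ * (⁅px, pz⁆ * ⁅py, pz⁆) = 1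
    have hc := hS.commutator_mem_center py pz
    rw [show ⁅px * py, pz⁆ = px * ⁅py, pz⁆ * px⁻¹ * ⁅px, pz⁆ by simp only [commutatorElement_def]; group,
      ← hcm hc px, mul_inv_cancel_right, ← hcm hc ⁅px, pz⁆]
    exact hS.center_sq _ (mul_mem hc (hS.commutator_mem_center px pz))
  obtain ⟨β, hβ⟩ := FieldMaps.exists_diagonal q hthird
  obtain ⟨s, c, hc⟩ := FieldMaps.exists_coeff_biadditive β
  let qh : F →* F := { toFun := q, map_one' := hq1, map_mul' := hqmul }
  obtain ⟨σ, τ, hστ⟩ : ∃ σ τ : F ≃+* F, ∀ x, q x = σ x * τ x := by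
    by_contra hno
    push Not at hno
    have h := coeff_eq_zero (insert none (s.image some))
      (fun o : Option ((F ≃+* F) × (F ≃+* F)) => o.elim qh
        (fun p => ((p.1 : F →+* F) : F →* F) * ((p.2 : F →+* F) : F →* F)))
      (fun o => o.elim 1 c) (fun x => by
        rw [Finset.sum_insert (by simp), Finset.sum_image fun _ _ _ _ h => Option.some_injective _ h]
        show 1 * q x + ∑ p ∈ s, c p * (p.1 x * p.2 x) = 0
        rw [one_mul, ← hc, ← hβ]
        exact CharTwo.add_self_eq_zero _) qh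
    rw [Finset.sum_eq_single (none : Option ((F ≃+* F) × (F ≃+* F))) (fun o ho hne => ?_)
      (fun h' => absurd (by simp) h')] at h
    · exact one_ne_zero h
    · rcases o with _ | p
      · exact absurd rfl hne
      · obtain ⟨x, hx⟩ := hno p.1 p.2
        exact absurd (DFunLike.congr_fun (Finset.mem_filter.1 ho).2 x) (Ne.symm hx)
  set φ : F ≃+* F := σ.symm.trans τ with hφ
  have hQzero : Q 0 = 0 := by
    apply Additive.toMul.injective
    apply Subtype.ext
    have := hQmk 1
    rw [map_one, mul_one] at this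
    exact this
  have hQinj : Function.Injective Q := by
    have hsurj : Function.Surjective Q := by
      intro u
      by_cases hu : u = 0
      · exact ⟨0, hu ▸ hQzero⟩
      obtain ⟨l, hl⟩ := htrZ (Q vV) u (fun h => hvV0 (hQ0 _ h)) hu
      exact ⟨ρV l vV, by rw [hQk, hl]⟩
    exact (Function.Surjective.bijective_of_nat_card_le hsurj (le_of_eq hq)).1
  -- normalised coordinates on the quotient
  let A' : F ≃+ Additive (P ⧸ Z) := σ.symm.toAddEquiv.trans A
  set ψ : F → F := fun x => x * φ x with hψdef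
  have hψA : ∀ x, q (σ.symm x) = ψ x := fun x => by
    rw [hστ, σ.apply_symm_apply]
    rfl
  have hψinj : Function.Injective ψ := fun x y h => by
    rw [← hψA, ← hψA] at h
    exact σ.symm.injective (A.injective (hQinj (B.symm.injective h)))
  have hA'one : A' 1 = vV := by
    show Φ₁ (ι₁.symm (σ.symm 1)) = vV
    rw [map_one, map_one, hΦ11]
  have hQA' : ∀ x, Q (A' x) = B (ψ x) := fun x => by
    rw [← hψA]
    exact (B.apply_symm_apply _).symm
  have hψmul : ∀ x y, ψ (x * y) = ψ x * ψ y := fun x y => by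
    simp only [hψdef, map_mul]
    ring
  have hψ1 : ψ 1 = 1 := by simp [hψdef]
  -- scalars
  have hscal : ∀ c : F, c ≠ 0 → ∃ k : K, (∀ y, ρV k (A' y) = A' (c * y)) ∧
      ∀ y, ρZ k (B y) = B (ψ c * y) := by
    intro c hc
    obtain ⟨k, hk⟩ := hχ1 (ι₁.symm (σ.symm c)) (by simpa using hc)
    have h1 : ∀ y, ρV k (A' y) = A' (c * y) := fun y => by
      show ρV k (Φ₁ (ι₁.symm (σ.symm y))) = Φ₁ (ι₁.symm (σ.symm (c * y)))
      rw [map_mul σ.symm, map_mul ι₁.symm, ← hk, hΦ1]
    refine ⟨k, h1, fun y => ?_⟩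
    obtain ⟨x, rfl⟩ := Finite.surjective_of_injective hψinj y
    rw [← hQA', ← hQk, h1, hQA', hψmul]
  have huniq : ∀ k l : K, ρZ k (B 1) = ρZ l (B 1) → k = l := by
    intro k l h
    have hne : B 1 ≠ 0 := fun e => one_ne_zero (B.injective (e.trans B.map_zero.symm))
    have hB1 : ((B 1).toMul : P) ≠ 1 := fun e => hne (Additive.toMul.injective (Subtype.ext e))
    have hB2 := hS.center_sq _ (B 1).toMul.2
    have hkl : (k : MulAut P) ((B 1).toMul : P) = (l : MulAut P) ((B 1).toMul : P) :=
      congrArg (fun u => (u.toMul : P)) h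
    exact (hS.regular _ _ hB1 hB2 (fun e => hB1 ((k : MulAut P).map_eq_one_iff.1 e))
      (by rw [← map_mul, hB2, map_one])).unique rfl hkl.symm
  choose kk hkV hkZ using hscal
  have hk1 : ∀ c (hc : c ≠ 0), ρZ (kk c hc) (B 1) = B (ψ c) := fun c hc => by rw [hkZ, mul_one]
  have hkmul : ∀ c d (hc : c ≠ 0) (hd : d ≠ 0), kk (c * d) (mul_ne_zero hc hd) = kk c hc * kk d hd := by
    intro c d hc hd
    refine huniq _ _ ?_
    rw [hk1, map_mul ρZ]
    show B (ψ (c * d)) = ρZ (kk c hc) (ρZ (kk d hd) (B 1))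
    rw [hk1, hkZ, hψmul]
  have hkone : ∀ h : (1 : F) ≠ 0, kk 1 h = 1 := fun h => huniq _ _ (by
    rw [hk1, hψ1, map_one ρZ]; rfl)
  -- the section
  let R : F → P := fun x => if h : x = 0 then 1 else (kk x h : MulAut P) r
  have hR0 : R 0 = 1 := dif_pos rfl
  have hRk : ∀ x (h : x ≠ 0), R x = (kk x h : MulAut P) r := fun x h => dif_neg h
  have hR1 : R 1 = r := by rw [hRk 1 one_ne_zero, hkone]; rfl
  have hRact : ∀ c (hc : c ≠ 0) x, (kk c hc : MulAut P) (R x) = R (c * x) := by
    intro c hc x
    by_cases hx : x = 0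
    · rw [hx, mul_zero, hR0, map_one]
    · rw [hRk x hx, hRk (c * x) (mul_ne_zero hc hx), hkmul c x hc hx]
      rfl
  have hRA : ∀ x, Additive.ofMul (QuotientGroup.mk' Z (R x)) = A' x := by
    intro x
    by_cases hx : x = 0
    · rw [hx, hR0, map_one, map_zero]; rfl
    · rw [hRk x hx, ← hρV, show Additive.ofMul (QuotientGroup.mk' Z r) = A' 1 from hA'one.symm,
        hkV, mul_one]
  -- the cocycle
  have hmem : ∀ x y, R x * R y * (R (x + y))⁻¹ ∈ Z := fun x y => by
    rw [← QuotientGroup.eq_one_iff]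
    show QuotientGroup.mk' Z (R x * R y * (R (x + y))⁻¹) = 1
    rw [map_mul, map_mul, map_inv, mul_inv_eq_one]
    apply Additive.ofMul.injective
    rw [ofMul_mul, hRA, hRA, hRA, map_add]
  let κ : F → F → F := fun x y => B.symm (Additive.ofMul ⟨_, hmem x y⟩)
  let Bc : F → P := fun y => ((B y).toMul : P)
  have hBc : ∀ y, Bc y ∈ Z := fun y => (B y).toMul.2
  have hBadd : ∀ x y, Bc (x + y) = Bc x * Bc y := fun x y => by
    show ((B (x + y)).toMul : P) = _
    rw [map_add]; rfl
  have hBinj : Function.Injective Bc := fun x y h =>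
    B.injective (Additive.toMul.injective (Subtype.ext h))
  have hB0 : Bc 0 = 1 := by show ((B 0).toMul : P) = 1; rw [map_zero]; rfl
  have hRR : ∀ x y, R x * R y = R (x + y) * Bc (κ x y) := fun x y => by
    show _ = R (x + y) * ((B (B.symm _)).toMul : P)
    rw [B.apply_symm_apply, toMul_ofMul, ← hcm (hmem x y), inv_mul_cancel_right]
  have hBk : ∀ c (hc : c ≠ 0) y, (kk c hc : MulAut P) (Bc y) = Bc (ψ c * y) := fun c hc y => by
    rw [← hρZ (kk c hc) (B y), hkZ]
  have hcancel : ∀ z x y, R z * Bc x = R z * Bc y → x = y := fun z x y h => hBinj (mul_left_cancel h)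
  -- properties of the cocycle
  have h0 : ∀ x, κ 0 x = 0 := fun x => hcancel x _ _ (by
    have := hRR 0 x
    rw [hR0, one_mul, zero_add] at this
    rw [← this, hB0, mul_one])
  have hdiag : ∀ x, κ x x = ψ x := fun x => hBinj (by
    have := hRR x x
    rw [CharTwo.add_self_eq_zero, hR0, one_mul] at this
    rw [← this, ← hQmk (R x), hRA, hQA'])
  have hequiv : ∀ c, c ≠ 0 → ∀ x y, κ (c * x) (c * y) = ψ c * κ x y := fun c hc x y =>
    hcancel (c * (x + y)) _ _ (by
      have h := congrArg (kk c hc : MulAut P) (hRR x y)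
      rw [map_mul, map_mul, hRact, hRact, hRact, hBk] at h
      have h' := hRR (c * x) (c * y)
      rw [← mul_add, h] at h'
      exact h'.symm)
  have hassoc : ∀ x y z, κ x y + κ (x + y) z = κ y z + κ x (y + z) := fun x y z =>
    hcancel (x + y + z) _ _ (by
      have h1 : R x * R y * R z = R (x + y + z) * Bc (κ x y + κ (x + y) z) := by
        rw [hRR, mul_assoc, hcm (hBc _), ← mul_assoc, hRR, hBadd, mul_assoc, hcm (hBc _)]
      have h2 : R x * (R y * R z) = R (x + y + z) * Bc (κ y z + κ x (y + z)) := by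
        rw [hRR, ← mul_assoc, hRR, mul_assoc, ← add_assoc, hBadd, hcm (hBc _)]
      rw [← h1, ← h2, mul_assoc])
  have hsw : ∀ x y, κ x y = κ y x + (φ x * y + x * φ y) := fun x y =>
    hcancel (x + y) _ _ (by
      have hp := hpolar (σ.symm x) (σ.symm y) (R x) (R y) (hRA x).symm (hRA y).symm
      rw [← map_add σ.symm, hψA, hψA, hψA,
        show ψ (x + y) + ψ x + ψ y = φ x * y + x * φ y by
          simp only [hψdef, map_add]
          linear_combination (x * φ x + y * φ y) * (CharTwo.two_eq_zero (R := F))] at hp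
      have hc : Bc (φ x * y + x * φ y) = ⁅R x, R y⁆ := congrArg (fun u => (u.toMul : P)) hp
      rw [← hRR, hBadd, hc, ← mul_assoc, add_comm x y, ← hRR,
        ← hcm (hS.commutator_mem_center (R x) (R y))]
      simp only [commutatorElement_def]
      group)
  -- averaging
  obtain ⟨L₀, hL₀⟩ := exists_coboundary CharTwo.add_self_eq_zero CharTwo.add_self_eq_zero
    (fun x y => κ x y + φ x * y) (fun x => by rw [h0, map_zero, zero_mul, add_zero])
    (fun x y => by
      rw [hsw x y]
      linear_combination (φ x * y) * (CharTwo.two_eq_zero (R := F)))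
    (fun x => by
      rw [hdiag]
      simp only [hψdef]
      linear_combination (x * φ x) * (CharTwo.two_eq_zero (R := F)))
    (fun x y z => by
      simp only [map_add]
      linear_combination hassoc x y z)
  let L : F → F := fun x => ∑ c : Fˣ, L₀ ((c : F) * x) / ψ c
  have hψne : ∀ c : Fˣ, ψ (c : F) ≠ 0 := fun c => mul_ne_zero c.ne_zero (by simp)
  have hLc : ∀ x y, κ x y + φ x * y = L x + L y + L (x + y) := by
    intro x y
    simp only [L, ← Finset.sum_add_distrib]
    have hterm : ∀ c : Fˣ, L₀ ((c : F) * x) / ψ c + L₀ ((c : F) * y) / ψ c + L₀ ((c : F) * (x + y)) / ψ c =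
        κ x y + φ x * y := fun c => by
      rw [← add_div, ← add_div, mul_add, ← hL₀, hequiv _ c.ne_zero, div_eq_iff (hψne c), map_mul]
      simp only [hψdef]
      ring
    rw [Finset.sum_congr rfl fun c _ => hterm c, Finset.sum_const, Finset.card_univ, nsmul_eq_mul,
      Fintype.card_units]
    have hcast : ((Fintype.card F - 1 : ℕ) : F) = 1 := by
      rw [Nat.cast_sub Fintype.card_pos, FiniteField.cast_card_eq_zero, Nat.cast_one, zero_sub,
        CharTwo.neg_eq]
    rw [hcast, one_mul]
  have hLs : ∀ c : Fˣ, ∀ x, L ((c : F) * x) = ψ c * L x := by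
    intro c x
    show ∑ d : Fˣ, _ = ψ c * ∑ d : Fˣ, _
    rw [Finset.mul_sum]
    refine Fintype.sum_equiv (Equiv.mulRight c) _ _ fun d => ?_
    have h1 := hψne c
    have h2 := hψne d
    simp only [Equiv.coe_mulRight, Units.val_mul, hψmul, mul_assoc]
    rw [mul_comm (ψ (d : F)) (ψ (c : F)), mul_div_assoc', mul_div_mul_left _ _ h1]
  have hL0 : L 0 = 0 := by
    have := hLc 0 0
    rw [h0, map_zero, zero_mul, add_zero, CharTwo.add_self_eq_zero, zero_add] at this
    exact this.symm
  have hLψ : ∀ x, L x = L 1 * ψ x := fun x => by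
    by_cases hx : x = 0
    · rw [hx, hL0]; simp [hψdef]
    · have := hLs (Units.mk0 x hx) 1
      rw [mul_one, Units.val_mk0] at this
      rw [this, mul_comm]
  set β := L 1 with hβdef
  have hκ : ∀ x y, κ x y = (1 + β) * (φ x * y) + β * (x * φ y) := fun x y => by
    have h := hLc x y
    rw [hLψ x, hLψ y, hLψ (x + y)] at h
    simp only [hψdef, map_add] at h
    linear_combination h + (β * (x * φ x + y * φ y) - φ x * y) * (CharTwo.two_eq_zero (R := F))
  refine ⟨F, inferInstance, inferInstance, inferInstance, hcardF, ⟨{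
    φ := φ
    β := β
    M := fun x y => R x * Bc y
    bij := ?_
    mul := fun x y x' y' => ?_
    base := by rw [hR1, hB0, mul_one]
    psi_injective := hψinj
    act := fun k => ?_
    surj := fun c hc => ⟨kk c hc, fun x y => by rw [map_mul, hRact, hBk]⟩ }⟩⟩
  · refine ⟨fun ⟨x, y⟩ ⟨x', y'⟩ h => ?_, fun p => ?_⟩
    · have h' : R x * Bc y = R x' * Bc y' := h
      have hx : x = x' := A'.injective (by
        have := congrArg (fun p => Additive.ofMul (QuotientGroup.mk' Z p)) h'
        simp only [map_mul, ofMul_mul, hRA] at this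
        have h1 : ∀ y, Additive.ofMul (QuotientGroup.mk' Z (Bc y)) = 0 := fun y =>
          congrArg Additive.ofMul ((QuotientGroup.eq_one_iff _).2 (hBc y))
        rwa [h1, h1, add_zero, add_zero] at this)
      subst hx
      rw [hcancel x y y' h']
    · set x := A'.symm (Additive.ofMul (QuotientGroup.mk' Z p)) with hxdef
      have hz : (R x)⁻¹ * p ∈ Z := by
        rw [← QuotientGroup.eq]
        exact Additive.ofMul.injective ((hRA x).trans (A'.apply_symm_apply _))
      refine ⟨(x, B.symm (Additive.ofMul ⟨_, hz⟩)), ?_⟩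
      show R x * ((B (B.symm _)).toMul : P) = p
      rw [B.apply_symm_apply, toMul_ofMul, mul_inv_cancel_left]
  · calc R x * Bc y * (R x' * Bc y') = R x * R x' * (Bc y * Bc y') := by
          rw [mul_assoc (R x), ← mul_assoc (Bc y), hcm (hBc y) (R x')]; group
      _ = _ := by
          rw [hRR, mul_assoc, hκ, ← hBadd, ← hBadd]
          congr 2
          ring
  · obtain ⟨c, hc⟩ := Finite.surjective_of_injective hψinj (B.symm (ρZ k (B 1)))
    have hc0 : c ≠ 0 := fun e => by
      rw [e] at hc
      have h0' : B.symm (ρZ k (B 1)) = 0 := by rw [← hc]; simp [hψdef]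
      rw [map_eq_zero_iff _ B.symm.injective] at h0'
      have h1 : (k : MulAut P) ((B 1).toMul : P) = 1 := congrArg (fun u => (u.toMul : P)) h0'
      exact one_ne_zero (hBinj (((k : MulAut P).map_eq_one_iff.1 h1).trans hB0.symm))
    have hk : k = kk c hc0 := huniq _ _ (by rw [hk1, hc, B.apply_symm_apply])
    exact ⟨c, hc0, fun x y => by rw [hk, map_mul, hRact, hBk]⟩

end CfsgLib.SuzukiUnique
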