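import Cfsg.Agent.SuzukiUnique.Setup

/-!
The structure equation determines the swap on the point kernel: `c = 1`, `φ` has no fixed points besides
`0, 1`, `β ∈ {0,1}`, and for `β = 0`, `φ² = 2` and the swap is the Suzuki inversion.
-/

set_option autoImplicit false
set_option linter.unusedSectionVars false

namespace CfsgLib.SuzukiUnique

variable {F : Type} [Field F] [Fintype F] [CharP F 2]

namespace SData

variable {G Ω : Type*} [Group G] [MulAction G Ω] {a : Ω} (S : SData G Ω a F)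

theorem psi_surj : Function.Surjective (psi S.φ) := Finite.surjective_of_injective S.psi_injective

theorem add_eq_zero' {x y : F} (h : x + y = 0) : x = y := by
  rw [← CharTwo.sub_eq_add] at h; exact sub_eq_zero.1 h

theorem exists_psi_eq {y : F} (hy : y ≠ 0) : ∃ x, x ≠ 0 ∧ psi S.φ x = y := by
  obtain ⟨x, hx⟩ := S.psi_surj y
  exact ⟨x, fun e => hy (by rw [← hx, e, psi_zero]), hx⟩

/-- The map `H p = (1+β) φ(p) + β p`. -/
def H (p : F) : F := (1 + S.β) * S.φ p + S.β * p

theorem H_add (p q : F) : S.H (p + q) = S.H p + S.H q := by simp only [H, map_add]; ring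

theorem H_one : S.H 1 = 1 := by
  simp only [H, map_one]; linear_combination S.β * (two_zero (F := F))

theorem rel_base : S.Rel (0, S.cs) (1, 0) 1 (1, 1) := by
  refine ⟨one_ne_zero, ?_⟩
  rw [S.structure_eq, S.δ_one, S.el_inv, mul_one]
  simp [pinv]

theorem rel_rot : S.Rel (1, 0) (0, S.cs) 1 (1, 0) := by
  refine ⟨one_ne_zero, ?_⟩
  rw [S.δ_one, mul_one]
  calc S.t * S.el (1, 0) * S.t
      = S.t * (S.el (1, 0) * S.t * (S.el (1, 0))⁻¹) * S.el (1, 0) := by group
    _ = S.t * (S.t * S.el (0, S.cs) * S.t) * S.el (1, 0) := by rw [S.structure_eq]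
    _ = (S.t * S.t) * S.el (0, S.cs) * S.t * S.el (1, 0) := by group
    _ = _ := by rw [S.mul_self, one_mul]

theorem rel_rot_inv : S.Rel (1, 1) (1, 1) 1 (0, S.cs) := by
  simpa [pinv] using (S.rel_rot).inverse

theorem rel_center {A : F} (hA : A ≠ 0) :
    S.Rel (0, S.cs / psi S.φ A) (A, 0) (A ^ 2) (A, psi S.φ A) := by
  have h := (S.rel_base).scale (inv_ne_zero hA)
  simp only [sc, mul_zero, mul_one, inv_inv, psi_inv] at h
  rwa [← div_eq_inv_mul, one_div, inv_pow, inv_inv] at h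

theorem sc_one (p : F × F) : sc S.φ 1 p = p := by simp [sc]

theorem sc_sc (c d : F) (p : F × F) : sc S.φ c (sc S.φ d p) = sc S.φ (c * d) p := by
  simp [sc, psi_mul, mul_assoc]

/-- The main family of relations. -/
theorem rel_e {e : F} (he0 : e ≠ 0) (he1 : e ≠ 1) :
    ∃ C w, C ≠ 0 ∧ C ≠ 1 ∧ psi S.φ C * (1 + psi S.φ (1 + e)) = psi S.φ (1 + e) ∧
      S.Rel (1, S.H e⁻¹) (e * (1 + C), psi S.φ e * (1 + (1 + S.β) * C + S.β * S.φ C))
        ((e * C / (1 + e)) ^ 2) w := by
  set B := 1 + e with hB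
  have hB0 : B ≠ 0 := fun h => he1 (add_eq_zero' h).symm
  have hB1 : B ≠ 1 := fun h => he0 (by
    have := congrArg (1 + ·) h
    simpa [hB, ← add_assoc, CharTwo.add_self_eq_zero] using this)
  have hψB : psi S.φ B ≠ 0 := fun h => hB0 ((psi_eq_zero _).1 h)
  have h1ψ : 1 + psi S.φ B ≠ 0 := fun h => hB1 (S.psi_injective (by rw [psi_one, ← add_eq_zero' h]))
  obtain ⟨C, hC0, hC⟩ := S.exists_psi_eq (div_ne_zero hψB h1ψ)
  have hψC : psi S.φ C ≠ 0 := fun h => hC0 ((psi_eq_zero _).1 h)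
  have hC' : psi S.φ C * (1 + psi S.φ B) = psi S.φ B := by rw [hC, div_mul_cancel₀ _ h1ψ]
  have hC1 : C ≠ 1 := fun h => by
    rw [h, psi_one, one_mul] at hC'
    exact one_ne_zero (add_right_cancel (hC'.trans (zero_add _).symm))
  have hz : S.cs / psi S.φ 1 + S.cs / psi S.φ B = S.cs / psi S.φ C := by
    rw [hC, psi_one]; field_simp; ring
  set u : F × F := pm S.φ S.β (1, 1) (B, 0) with hu
  have hu0 : u ≠ (0, 0) := fun h => he0 (by
    have := congrArg Prod.fst h
    simpa [hu, pm, hB, ← add_assoc, CharTwo.add_self_eq_zero] using this)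
  obtain ⟨v, k₃, w, hv⟩ := S.exists_rel hu0
  have h1 := S.rel_center (one_ne_zero (α := F))
  rw [psi_one, one_pow] at h1
  have h2 := S.rel_center hB0
  have h12 := h1.comp h2 hv
  have hp : pm S.φ S.β (0, S.cs / 1) (0, S.cs / psi S.φ B) = (0, S.cs / psi S.φ C) := by
    rw [← hz, psi_one]; simp [pm]
  rw [hp] at h12
  obtain ⟨hq, hk, -⟩ := h12.unique (S.rel_center hC0)
  rw [S.sc_one] at hq
  have hv' : v = pm S.φ S.β (1, 1) (C, 0) := by
    refine S.pm_left_cancel (p := (1, 0)) ?_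
    rw [hq]
    refine S.el_injective ?_
    rw [← S.el_mul, ← S.el_mul, show ((1 : F), (1 : F)) = pinv S.φ (1, 0) by simp [pinv], ← S.el_inv,
      mul_inv_cancel_left]
  have hk' : k₃ = C ^ 2 / B ^ 2 := by
    rw [eq_div_iff (pow_ne_zero _ hB0)]
    linear_combination hk
  rw [hv', hk'] at hv
  have hs := hv.scale (inv_ne_zero he0)
  refine ⟨C, sc S.φ e⁻¹⁻¹ w, hC0, hC1, hC', ?_⟩
  convert hs using 1
  · refine Prod.ext ?_ ?_
    · simp only [sc, hu, pm, hB]
      rw [show (1 : F) + (1 + e) = e by rw [← add_assoc, CharTwo.add_self_eq_zero, zero_add],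
        inv_mul_cancel₀ he0]
    · have hφe : S.φ e ≠ 0 := by simpa using he0
      simp only [sc, hu, pm, hB, map_one, map_add, H, map_inv₀, psi]
      field_simp
      linear_combination (-(1 + S.β)) * (two_zero (F := F))
  · refine Prod.ext ?_ ?_
    · simp [sc, pm]
    · simp [sc, pm, add_assoc]
  · field_simp

theorem H_ne_zero {p : F} (hp : p ≠ 0) : S.H p ≠ 0 := by
  intro h
  have hp1 : p ≠ 1 := fun e => one_ne_zero (by rw [← S.H_one, ← e, h])
  obtain ⟨C, w, -, hC1, -, hr⟩ := S.rel_e (inv_ne_zero hp) (fun e => hp1 (inv_eq_one.1 e))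
  rw [inv_inv, h] at hr
  obtain ⟨hq, -, -⟩ := hr.unique S.rel_rot
  have h1 : p⁻¹ * (1 + C) = 0 := congrArg Prod.fst hq
  exact hC1 (add_eq_zero' ((mul_eq_zero.1 h1).resolve_left (inv_ne_zero hp))).symm

theorem H_injective : Function.Injective S.H := fun p q h => by
  by_contra hne
  refine S.H_ne_zero (p := p + q) (fun e => hne (add_eq_zero' e)) ?_
  rw [S.H_add, h, CharTwo.add_self_eq_zero]

theorem exists_H {y : F} (hy0 : y ≠ 0) (hy1 : y ≠ 1) :
    ∃ e, e ≠ 0 ∧ e ≠ 1 ∧ S.H e⁻¹ = y := by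
  obtain ⟨p, hp⟩ := Finite.surjective_of_injective S.H_injective y
  refine ⟨p⁻¹, fun h => hy0 ?_, fun h => hy1 ?_, by rw [inv_inv, hp]⟩
  · rw [← hp, inv_eq_zero.1 h]; simp [H]
  · rw [← hp, inv_eq_one.1 h, S.H_one]

/-- The involution of the structure equation is the square of the element. -/
theorem cs_eq_one : S.cs = 1 := by
  by_contra hcs
  obtain ⟨A, hA0, hA⟩ := S.exists_psi_eq S.cs_ne
  have hz := S.rel_center hA0
  rw [hA, div_self S.cs_ne] at hz
  have hu : pm S.φ S.β (1, 0) (1, 0) = (0, 1) := by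
    refine Prod.ext (CharTwo.add_self_eq_zero _) ?_
    simp only [pm, map_one]
    linear_combination S.β * (two_zero (F := F))
  have h := (S.rel_rot).comp S.rel_base (by rw [hu]; exact hz)
  have hp : pm S.φ S.β (1, 0) (0, S.cs) = (1, S.cs) := by simp [pm]
  rw [hp, S.sc_one, one_mul, mul_one] at h
  obtain ⟨e, he0, he1, he⟩ := S.exists_H S.cs_ne hcs
  obtain ⟨C, w, -, -, hC, hr⟩ := S.rel_e he0 he1
  rw [he] at hr
  obtain ⟨hq, hk, -⟩ := hr.unique h
  have hX : e * (1 + C) = A := by simpa [pm] using congrArg Prod.fst hq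
  have hL : e * C / (1 + e) = A := CharTwo.sq_injective hk
  have hB0 : (1 : F) + e ≠ 0 := fun h => he1 (add_eq_zero' h).symm
  rw [div_eq_iff hB0] at hL
  -- `e * C = 1 + e`
  have heC : e * C = 1 + e := by
    have h0 : e * C = e * (1 + C) * (1 + e) := by rw [hL, hX]
    refine mul_left_cancel₀ he0 ?_
    linear_combination h0 + e ^ 2 * C * (two_zero (F := F))
  have hψ : psi S.φ e * psi S.φ C = psi S.φ (1 + e) := by rw [← psi_mul, heC]
  have hψe : psi S.φ e ≠ 0 := fun h => he0 ((psi_eq_zero _).1 h)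
  have hψB : psi S.φ (1 + e) ≠ 0 := fun h => hB0 ((psi_eq_zero _).1 h)
  have h3 : 1 + psi S.φ (1 + e) = psi S.φ e := by
    refine mul_left_cancel₀ hψB ?_
    linear_combination (psi S.φ e) * hC - (1 + psi S.φ (1 + e)) * hψ
  have hφe : S.φ e = e := by
    simp only [psi, map_add, map_one] at h3
    linear_combination h3 - (two_zero (F := F)) * (1 + e)
  have hcs' : S.cs = e⁻¹ := by
    rw [← he]
    simp only [H, map_inv₀, hφe]
    linear_combination (S.β * e⁻¹) * (two_zero (F := F))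
  have hA1 : A = 1 := by
    rw [← hX]
    linear_combination heC + e * (two_zero (F := F))
  exact hcs (by rw [← hA, hA1, psi_one])

/-- The consequence of the relation at `r⁻¹ z`. -/
theorem key_inv {A e : F} (hA0 : A ≠ 0) (he0 : e ≠ 0) (he1 : e ≠ 1)
    (he : S.H e⁻¹ = 1 / psi S.φ A) :
    ∃ C w, psi S.φ C * (1 + psi S.φ (1 + e)) = psi S.φ (1 + e) ∧
      S.Rel (1, 1 / psi S.φ A) (e * (1 + C), psi S.φ e * (1 + (1 + S.β) * C + S.β * S.φ C))
        ((e * C / (1 + e)) ^ 2) w ∧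
      e * (1 + e + C) * A = (1 + e) ^ 2 * (A + e * (1 + C)) := by
  obtain ⟨C, w, hC0, -, hC, hr⟩ := S.rel_e he0 he1
  rw [he] at hr
  refine ⟨C, w, hC, hr, ?_⟩
  set B := 1 + e with hB
  have hB0 : B ≠ 0 := fun h => he1 (add_eq_zero' h).symm
  have hψA : psi S.φ A ≠ 0 := fun h => hA0 ((psi_eq_zero _).1 h)
  -- compose `r⁻¹` and the involution
  have hu : pm S.φ S.β (0, S.cs) (A, 0) = sc S.φ A (1, 1 / psi S.φ A) := by
    simp [pm, sc, cs_eq_one, hψA]
  have h := (S.rel_rot_inv).comp (S.rel_center hA0) (by rw [hu]; exact hr.scale hA0)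
  rw [S.sc_one, one_mul, div_mul_cancel₀ _ (pow_ne_zero _ hA0)] at h
  -- the parameter of `r⁻¹ z`
  have heinv : (e / B)⁻¹ = 1 + e⁻¹ := by
    rw [inv_div, hB, add_div, div_self he0, one_div, add_comm]
  have heB0 : e / B ≠ 0 := div_ne_zero he0 hB0
  have heB1 : e / B ≠ 1 := fun h => by
    rw [div_eq_one_iff_eq hB0, hB] at h
    exact one_ne_zero (add_right_cancel (h.symm.trans (zero_add e).symm))
  obtain ⟨C₃, w₃, hC₃0, -, -, hr₃⟩ := S.rel_e heB0 heB1
  rw [heinv, S.H_add, S.H_one, he] at hr₃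
  have hp : pm S.φ S.β (1, 1) (0, S.cs / psi S.φ A) = (1, 1 + 1 / psi S.φ A) := by
    simp [pm, cs_eq_one]
  rw [hp] at h
  obtain ⟨hq, hk, -⟩ := hr₃.unique h
  have hX : e / B * (1 + C₃) = 1 + A⁻¹ * (e * (1 + C)) := by
    simpa [pm, sc] using congrArg Prod.fst hq
  have hL : e / B * C₃ / (1 + e / B) = e * C / B := CharTwo.sq_injective hk
  have hC₃ : C₃ = C / B := by
    have h1B : 1 + e / B = 1 / B := by
      rw [add_div' _ _ _ hB0, one_mul, hB, add_assoc, CharTwo.add_self_eq_zero, add_zero]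
    rw [h1B] at hL
    field_simp at hL ⊢
    linear_combination hL
  rw [hC₃] at hX
  field_simp at hX
  linear_combination hX

/-- The fixed field of `φ` is trivial. -/
theorem fixed_trivial {A : F} (hA : S.φ A = A) : A = 0 ∨ A = 1 := by
  by_contra h
  push Not at h
  obtain ⟨hA0, hA1⟩ := h
  have hψ : psi S.φ A = A ^ 2 := by rw [psi, hA, pow_two]
  have he0 : A ^ 2 ≠ 0 := pow_ne_zero _ hA0
  have he1 : A ^ 2 ≠ 1 := fun e => hA1 (CharTwo.sq_injective (e.trans (one_pow 2).symm))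
  have he : S.H (A ^ 2)⁻¹ = 1 / psi S.φ A := by
    simp only [H, map_inv₀, map_pow, hA, hψ]
    linear_combination (S.β * (A ^ 2)⁻¹) * (two_zero (F := F))
  obtain ⟨C, w, hC, -, heq⟩ := S.key_inv hA0 he0 he1 he
  set e := A ^ 2 with hedef
  set B := 1 + e with hB
  have hB0 : B ≠ 0 := fun h => he1 (add_eq_zero' h).symm
  have hφB : S.φ B = B := by rw [hB, hedef, map_add, map_one, map_pow, hA]
  have hφe : S.φ e = e := by rw [hedef, map_pow, hA]
  have hCe : C = B / e := by
    apply S.psi_injective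
    have h1 : psi S.φ (B / e) = B * B / (e * e) := by rw [psi, map_div₀, hφB, hφe, div_mul_div_comm]
    have h2 : psi S.φ B = B * B := by rw [psi, hφB]
    rw [h2] at hC
    rw [h1, eq_div_iff (mul_ne_zero he0 he0)]
    linear_combination hC - (psi S.φ C) * (1 + e) * (two_zero (F := F))
  rw [hCe] at heq
  field_simp at heq
  -- contradiction
  refine one_ne_zero (α := F) ?_
  have h2 := two_zero (F := F)
  have hBB : B ^ 2 * (B + e) = 0 := by
    rw [hB] at heq ⊢
    grobner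
  rcases mul_eq_zero.1 hBB with h | h
  · exact absurd (pow_eq_zero_iff two_ne_zero |>.1 h) hB0
  · rw [hB] at h
    linear_combination h - e * h2

/-- The parameter `β` is `0` or `1`. -/
theorem beta_zero_or_one : S.β = 0 ∨ S.β = 1 := by
  by_contra h
  push Not at h
  obtain ⟨hb0, hb1⟩ := h
  let f : Fˣ → Fˣ := fun p => p / Units.mk0 (S.φ p) (by simp)
  have hf : Function.Injective f := by
    intro p q h
    have h' : (p : F) / S.φ p = (q : F) / S.φ q := by
      have := congrArg Units.val h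
      simpa [f, Units.val_div_eq_div_val] using this
    have hfix : S.φ ((p : F) / q) = (p : F) / q := by
      rw [map_div₀]
      have hp : S.φ (p : F) ≠ 0 := by simp
      have hq : S.φ (q : F) ≠ 0 := by simp
      field_simp at h' ⊢
      linear_combination -h'
    rcases S.fixed_trivial hfix with h0 | h1
    · simp at h0
    · exact Units.ext ((div_eq_one_iff_eq q.ne_zero).1 h1)
  have h1β : 1 + S.β ≠ 0 := fun h => hb1 (add_eq_zero' h).symm
  obtain ⟨p, hp⟩ := Finite.surjective_of_injective hf (Units.mk0 ((1 + S.β) / S.β) (div_ne_zero h1β hb0))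
  have hp' : (p : F) / S.φ p = (1 + S.β) / S.β := by
    have := congrArg Units.val hp
    simpa [f, Units.val_div_eq_div_val] using this
  refine S.H_ne_zero p.ne_zero ?_
  have : S.φ (p : F) ≠ 0 := by simp
  field_simp at hp'
  simp only [H]
  linear_combination hp' + ((1 + S.β) * S.φ (p : F)) * (two_zero (F := F))

/-- For `β = 0` the first coordinate determines the second one. -/
theorem rel_ratio (hβ : S.β = 0) {b : F} (hb : b ≠ 0) :
    ∃ X L w, S.Rel (1, b) (X, X / b) L w := by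
  by_cases hb1 : b = 1
  · subst hb1
    exact ⟨1, 1, _, by rw [div_one]; exact S.rel_rot_inv⟩
  obtain ⟨e, he0, he1, he⟩ := S.exists_H hb hb1
  obtain ⟨C, w, -, -, -, hr⟩ := S.rel_e he0 he1
  rw [he] at hr
  refine ⟨e * (1 + C), (e * C / (1 + e)) ^ 2, w, ?_⟩
  have hφe : S.φ e = b⁻¹ := by
    rw [← he]; simp [H, hβ]
  convert hr using 2
  simp only [hβ, psi, hφe]
  ring

/-- The main identity for `β = 0`. -/
theorem key_formula (hβ : S.β = 0) {A : F} (hA0 : A ≠ 0) (hA1 : A ≠ 1) :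
    S.φ (S.φ A) = A ^ 2 ∧ ∃ X L w, S.Rel (1, 1 / psi S.φ A) (X, X * psi S.φ A) L w ∧
      X * (A ^ 2 * S.φ A + A + 1) = A := by
  have hψA : psi S.φ A ≠ 0 := fun h => hA0 ((psi_eq_zero _).1 h)
  have hψA1 : (1 : F) / psi S.φ A ≠ 1 := fun h => by
    rw [one_div, inv_eq_one] at h
    exact hA1 (S.psi_injective (h.trans (psi_one _).symm))
  obtain ⟨e, he0, he1, he⟩ := S.exists_H (div_ne_zero one_ne_zero hψA) hψA1
  obtain ⟨C, w, -, hr, heq⟩ := S.key_inv hA0 he0 he1 he
  have hφe : S.φ e = psi S.φ A := by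
    have : (S.φ e)⁻¹ = (psi S.φ A)⁻¹ := by
      rw [← one_div (psi S.φ A), ← he]; simp [H, hβ]
    exact inv_injective this
  set X := e * (1 + C) with hX
  have hr' : S.Rel (1, 1 / psi S.φ A) (X, X * psi S.φ A) ((e * C / (1 + e)) ^ 2) w := by
    convert hr using 2
    simp only [hβ, psi] at hφe ⊢
    rw [hX, ← hφe]
    ring
  -- compose `r` and the involution
  have h1A : 1 + A ≠ 0 := fun h => hA1 (add_eq_zero' h).symm
  have hψ1A : psi S.φ (1 + A) ≠ 0 := fun h => h1A ((psi_eq_zero _).1 h)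
  obtain ⟨X₂, L₂, w₂, hr₂⟩ := S.rel_ratio hβ (div_ne_zero hA0 hψ1A)
  have hu : pm S.φ S.β (1, 0) (A, 0) = sc S.φ (1 + A) (1, A / psi S.φ (1 + A)) := by
    refine Prod.ext ?_ ?_
    · simp [pm, sc]
    · simp only [pm, sc, hβ, map_one]
      field_simp
      ring
  have h := (S.rel_rot).comp (S.rel_center hA0) (by rw [hu]; exact hr₂.scale h1A)
  rw [S.sc_one] at h
  have hp : pm S.φ S.β (1, 0) (0, S.cs / psi S.φ A) = (1, 1 / psi S.φ A) := by
    simp [pm, cs_eq_one, hβ]
  rw [hp] at h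
  obtain ⟨hq, -, -⟩ := hr'.unique h
  have hq1 : X = (1 + A)⁻¹ * X₂ := by simpa [pm, sc, hβ] using congrArg Prod.fst hq
  have hq2 : X * psi S.φ A = 1 + psi S.φ (1 + A)⁻¹ * (X₂ / (A / psi S.φ (1 + A))) := by
    simpa [pm, sc, hβ, cs_eq_one] using congrArg Prod.snd hq
  have hP : X * (A ^ 2 * S.φ A + A + 1) = A := by
    have hX₂ : X₂ = (1 + A) * X := by rw [hq1, mul_inv_cancel_left₀ h1A]
    rw [hX₂, psi_inv] at hq2
    field_simp at hq2
    simp only [psi] at hq2
    linear_combination hq2 + (X * (A + 1)) * (two_zero (F := F))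
  refine ⟨?_, X, _, w, hr', hP⟩
  set P := A ^ 2 * S.φ A + A + 1 with hPdef
  set B := 1 + e with hB
  have h5 : A * (e * (B + C) * P + B ^ 2 * (P + 1)) = 0 := by
    linear_combination P * heq + B ^ 2 * hP + (B ^ 2 * A * (P + 1)) * (two_zero (F := F))
  have h6 : e * (B + C) * P + B ^ 2 * (P + 1) = 0 := (mul_eq_zero.1 h5).resolve_left hA0
  have h7 : A + P + 1 + e ^ 2 = 0 := by
    have h2 := two_zero (F := F)
    rw [hB, hX] at *
    grobner
  have h8 : e ^ 2 = A ^ 2 * S.φ A := by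
    rw [hPdef] at h7
    linear_combination h7 - (A ^ 2 * S.φ A + A + 1) * (two_zero (F := F))
  have h9 := congrArg S.φ h8
  rw [map_pow, hφe, map_mul, map_pow, psi, mul_pow, mul_comm] at h9
  exact (mul_left_cancel₀ (pow_ne_zero 2 (by simpa using hA0)) h9).symm

theorem phi_phi (hβ : S.β = 0) (A : F) : S.φ (S.φ A) = A ^ 2 := by
  by_cases h0 : A = 0
  · simp [h0]
  by_cases h1 : A = 1
  · simp [h1]
  exact (S.key_formula hβ h0 h1).1

/-- The swap is the Suzuki inversion. -/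
theorem swap_formula (hβ : S.β = 0) {x y : F} (h : x ≠ 0 ∨ y ≠ 0) :
    ∃ q : F × F, S.t • S.el (x, y) • S.t • a = S.el q • S.t • a ∧
      x * y + x ^ 2 * S.φ x + S.φ y ≠ 0 ∧
      q.1 * (x * y + x ^ 2 * S.φ x + S.φ y) = y ∧
      q.2 * (x * y + x ^ 2 * S.φ x + S.φ y) = x := by
  have h2 := two_zero (F := F)
  -- points with first coordinate one
  have hone : ∀ b : F, ∃ X Y L w, S.Rel (1, b) (X, Y) L w ∧ b + 1 + S.φ b ≠ 0 ∧
      X * (b + 1 + S.φ b) = b ∧ Y * (b + 1 + S.φ b) = 1 := by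
    intro b
    by_cases hb0 : b = 0
    · subst hb0
      refine ⟨0, 1, _, _, by simpa [cs_eq_one] using S.rel_rot, by simp, by simp, by simp⟩
    by_cases hb1 : b = 1
    · subst hb1
      have : (1 : F) + 1 + S.φ 1 = 1 := by rw [map_one]; linear_combination h2
      refine ⟨1, 1, _, _, S.rel_rot_inv, ?_, ?_, ?_⟩ <;> rw [this] <;> simp
    obtain ⟨A, hA0, hA⟩ := S.exists_psi_eq (one_div_ne_zero hb0)
    have hA1 : A ≠ 1 := fun e => hb1 (by
      rw [e, psi_one, eq_comm, one_div, inv_eq_one] at hA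
      exact hA)
    obtain ⟨hφφ, X, L, w, hr, hX⟩ := S.key_formula hβ hA0 hA1
    have hb : 1 / psi S.φ A = b := by rw [hA, one_div_one_div]
    rw [hb] at hr
    have hψA : psi S.φ A ≠ 0 := fun h => hA0 ((psi_eq_zero _).1 h)
    have hφA : S.φ A ≠ 0 := by simpa using hA0
    have hf : X * (b + 1 + S.φ b) = b := by
      rw [← hb]
      simp only [psi, map_div₀, map_one, map_mul, hφφ]
      field_simp
      linear_combination hX
    refine ⟨X, X * psi S.φ A, L, w, hr, fun e => hb0 (by rw [← hf, e, mul_zero]), hf, ?_⟩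
    rw [mul_right_comm, hf, ← hb, one_div_mul_cancel hψA]
  by_cases hx : x = 0
  · subst hx
    have hy : y ≠ 0 := h.resolve_left (not_not.2 rfl)
    obtain ⟨c, hc, hψc⟩ := S.exists_psi_eq hy
    have hr := (S.rel_base).scale hc
    refine ⟨sc S.φ c⁻¹ (1, 0), ?_, by simp [hy], ?_, by simp [sc]⟩
    · have := hr.point
      simpa [sc, cs_eq_one, hψc] using this
    · simp only [sc, mul_one, zero_mul, zero_add, map_zero, zero_pow two_ne_zero, ← hψc, psi, map_mul,
        S.phi_phi hβ c]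
      field_simp
  obtain ⟨X, Y, L, w, hr, hf, hX, hY⟩ := hone (y / psi S.φ x)
  have hψx : psi S.φ x ≠ 0 := fun e => hx ((psi_eq_zero _).1 e)
  have hφx : S.φ x ≠ 0 := by simpa using hx
  set b := y / psi S.φ x with hbdef
  have hfac : x * y + x ^ 2 * S.φ x + S.φ y = x ^ 2 * S.φ x * (b + 1 + S.φ b) := by
    rw [hbdef]
    simp only [psi, map_div₀, map_mul, S.phi_phi hβ x]
    field_simp
  refine ⟨sc S.φ x⁻¹ (X, Y), ?_, ?_, ?_, ?_⟩
  · have := (hr.scale hx).point
    simpa [sc, hbdef, mul_div_cancel₀ _ hψx] using this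
  · rw [hfac]; exact mul_ne_zero (mul_ne_zero (pow_ne_zero _ hx) hφx) hf
  · rw [hfac]
    calc x⁻¹ * X * (x ^ 2 * S.φ x * (b + 1 + S.φ b))
        = x⁻¹ * (x ^ 2 * S.φ x) * (X * (b + 1 + S.φ b)) := by ring
      _ = psi S.φ x * b := by rw [hX]; simp only [psi]; field_simp
      _ = y := by rw [hbdef, mul_div_cancel₀ _ hψx]
  · rw [hfac]
    calc psi S.φ x⁻¹ * Y * (x ^ 2 * S.φ x * (b + 1 + S.φ b))
        = psi S.φ x⁻¹ * (x ^ 2 * S.φ x) * (Y * (b + 1 + S.φ b)) := by ring
      _ = x := by rw [hY, psi_inv]; simp only [psi]; field_simp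

end SData

end CfsgLib.SuzukiUnique
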