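import Cfsg.Agent.SuzukiUnique.Equations

/-!
Change of coordinates that makes the parameter `β` zero.
-/

set_option autoImplicit false
set_option linter.unusedSectionVars false

namespace CfsgLib.SuzukiUnique

variable {F : Type} [Field F] [Fintype F] [CharP F 2]

namespace SData

variable {G Ω : Type*} [Group G] [MulAction G Ω] {a : Ω} (S : SData G Ω a F)

/-- Twisting the coordinates by `φ` turns `β = 1` into `β = 0`. -/
def twist (hβ : S.β = 1) : SData G Ω a F where
  t := S.t
  φ := S.φ.symm
  β := 0
  cs := S.cs
  el := fun p => S.el (S.φ.symm p.1, p.2)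
  δ := fun c => S.δ (S.φ.symm c)
  mul_self := S.mul_self
  not_fix := S.not_fix
  el_mul := fun p q => by
    rw [S.el_mul]
    congr 1
    refine Prod.ext ?_ ?_
    · simp [pm]
    · simp only [pm, hβ, RingEquiv.apply_symm_apply]
      linear_combination (p.1 * S.φ.symm q.1) * (two_zero (F := F))
  el_fix := fun p => S.el_fix _
  el_inj := fun p q h => by
    have h' := S.el_inj _ _ h
    exact Prod.ext (S.φ.symm.injective (congrArg Prod.fst h' :)) (congrArg Prod.snd h' :)
  el_surj := fun w hw => by
    obtain ⟨p, hp⟩ := S.el_surj w hw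
    exact ⟨(S.φ p.1, p.2), by simpa using hp⟩
  δ_fix := fun c hc => S.δ_fix _ (by simpa using hc)
  δ_mul := fun c d hc hd => by
    rw [map_mul]
    exact S.δ_mul _ _ (by simpa using hc) (by simpa using hd)
  δ_el := fun c p hc => by
    rw [S.δ_el _ _ (by simpa using hc)]
    congr 2
    refine Prod.ext ?_ ?_
    · simp [sc]
    · simp only [sc, psi, RingEquiv.apply_symm_apply]
      ring
  δ_t := fun c hc => by
    rw [S.δ_t _ (by simpa using hc), map_inv₀]
  δ_surj := fun g h1 h2 => by
    obtain ⟨c, hc, hg⟩ := S.δ_surj g h1 h2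
    exact ⟨S.φ c, by simpa using hc, by simpa using hg⟩
  psi_injective := fun x y h => by
    refine S.φ.symm.injective (S.psi_injective ?_)
    simpa [psi, mul_comm] using h
  cs_ne := S.cs_ne
  structure_eq := by simpa using S.structure_eq

include S in
/-- The coordinates can be chosen with `β = 0`. -/
theorem exists_normalised : ∃ S' : SData G Ω a F, S'.β = 0 := by
  rcases S.beta_zero_or_one with h | h
  · exact ⟨S, h⟩
  · exact ⟨S.twist h, rfl⟩

end SData

end CfsgLib.SuzukiUnique
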