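import Mathlib

/-!
Abstract rank-one group with coordinatised point kernel: the relation `t x t = y δ(k) t z` and its formal rules.
-/

set_option autoImplicit false
set_option linter.unusedSectionVars false

namespace CfsgLib.SuzukiUnique

variable {F : Type} [Field F] [CharP F 2]

/-- The map `ψ x = x φ(x)`. -/
def psi (φ : F ≃+* F) (x : F) : F := x * φ x

@[simp] theorem psi_one (φ : F ≃+* F) : psi φ 1 = 1 := by simp [psi]

@[simp] theorem psi_zero (φ : F ≃+* F) : psi φ 0 = 0 := by simp [psi]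

theorem psi_mul (φ : F ≃+* F) (x y : F) : psi φ (x * y) = psi φ x * psi φ y := by
  simp only [psi, map_mul]; ring

theorem psi_inv (φ : F ≃+* F) (x : F) : psi φ x⁻¹ = (psi φ x)⁻¹ := by
  simp only [psi, map_inv₀, mul_inv]

theorem psi_eq_zero (φ : F ≃+* F) {x : F} : psi φ x = 0 ↔ x = 0 := by
  simp [psi]

/-- The product of coordinate pairs. -/
def pm (φ : F ≃+* F) (β : F) (p q : F × F) : F × F :=
  (p.1 + q.1, p.2 + q.2 + ((1 + β) * (φ p.1 * q.1) + β * (p.1 * φ q.1)))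

/-- The inverse of a coordinate pair. -/
def pinv (φ : F ≃+* F) (p : F × F) : F × F := (p.1, p.2 + psi φ p.1)

/-- The scaling of coordinate pairs. -/
def sc (φ : F ≃+* F) (c : F) (p : F × F) : F × F := (c * p.1, psi φ c * p.2)

/-- A coordinatised rank-one group with a structure equation. -/
structure SData (G Ω : Type*) [Group G] [MulAction G Ω] (a : Ω) (F : Type) [Field F] where
  t : G
  φ : F ≃+* F
  β : F
  cs : F
  el : F × F → G
  δ : F → G
  mul_self : t * t = 1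
  not_fix : t • a ≠ a
  el_mul : ∀ p q, el p * el q = el (pm φ β p q)
  el_fix : ∀ p, el p • a = a
  el_inj : ∀ p q, el p • t • a = el q • t • a → p = q
  el_surj : ∀ w : Ω, w ≠ a → ∃ p, el p • t • a = w
  δ_fix : ∀ c, c ≠ 0 → δ c • a = a ∧ δ c • t • a = t • a
  δ_mul : ∀ c d, c ≠ 0 → d ≠ 0 → δ (c * d) = δ c * δ d
  δ_el : ∀ c p, c ≠ 0 → δ c * el p = el (sc φ c p) * δ c
  δ_t : ∀ c, c ≠ 0 → t * δ c = δ c⁻¹ * t
  δ_surj : ∀ g : G, g • a = a → g • t • a = t • a → ∃ c, c ≠ 0 ∧ g = δ c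
  psi_injective : Function.Injective (psi φ)
  cs_ne : cs ≠ 0
  structure_eq : t * el (0, cs) * t = el (1, 0) * t * (el (1, 0))⁻¹

namespace SData

variable {G Ω : Type*} [Group G] [MulAction G Ω] {a : Ω} (S : SData G Ω a F)

theorem two_zero : (2 : F) = 0 := CharTwo.two_eq_zero

theorem el_zero : S.el (0, 0) = 1 := by
  have h := S.el_mul (0, 0) (0, 0)
  have h0 : pm S.φ S.β ((0 : F), (0 : F)) (0, 0) = (0, 0) := by simp [pm]
  rw [h0] at h
  exact mul_eq_left.1 h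

theorem el_inv (p : F × F) : (S.el p)⁻¹ = S.el (pinv S.φ p) := by
  refine inv_eq_of_mul_eq_one_right ?_
  rw [S.el_mul, show pm S.φ S.β p (pinv S.φ p) = (0, 0) from Prod.ext
    (CharTwo.add_self_eq_zero _) (by
      simp only [pm, pinv, psi]
      linear_combination (p.2 + p.1 * S.φ p.1 + S.β * (p.1 * S.φ p.1)) * (two_zero (F := F))), el_zero]

theorem el_injective : Function.Injective S.el := fun p q h => S.el_inj p q (by rw [h])

theorem δ_one : S.δ 1 = 1 := by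
  have := S.δ_mul 1 1 one_ne_zero one_ne_zero
  rw [mul_one] at this
  exact mul_eq_left.1 this.symm

theorem δ_inv {c : F} (hc : c ≠ 0) : (S.δ c)⁻¹ = S.δ c⁻¹ := by
  refine inv_eq_of_mul_eq_one_right ?_
  rw [← S.δ_mul c c⁻¹ hc (inv_ne_zero hc), mul_inv_cancel₀ hc, S.δ_one]

theorem δ_injective {c d : F} (hc : c ≠ 0) (hd : d ≠ 0) (h : S.δ c = S.δ d) : c = d := by
  have h1 := S.δ_el c (1, 0) hc
  rw [h, S.δ_el d (1, 0) hd] at h1
  have h2 := congrArg Prod.fst (S.el_injective (mul_right_cancel h1))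
  simpa [sc] using h2.symm

theorem pm_left_cancel {p q r : F × F} (h : pm S.φ S.β p q = pm S.φ S.β p r) : q = r := by
  have := congrArg S.el h
  rw [← S.el_mul, ← S.el_mul] at this
  exact S.el_injective (mul_left_cancel this)

/-- `t x t = y δ(k) t z`. -/
def Rel (p q : F × F) (k : F) (r : F × F) : Prop :=
  k ≠ 0 ∧ S.t * S.el p * S.t = S.el q * S.δ k * S.t * S.el r

variable {S}

theorem Rel.point {p q r : F × F} {k : F} (h : S.Rel p q k r) :
    S.t • S.el p • S.t • a = S.el q • S.t • a := by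
  have e := congrArg (fun g : G => g • a) h.2
  simp only [mul_smul] at e
  rw [e, S.el_fix r, (S.δ_fix k h.1).2]

theorem Rel.unique {p q q' r r' : F × F} {k k' : F} (h : S.Rel p q k r) (h' : S.Rel p q' k' r') :
    q = q' ∧ k = k' ∧ r = r' := by
  obtain rfl : q = q' := S.el_inj q q' (by rw [← h.point, ← h'.point])
  have e : S.δ k * S.t * S.el r = S.δ k' * S.t * S.el r' := by
    have := h.2.symm.trans h'.2
    rw [mul_assoc (S.el q), mul_assoc (S.el q), mul_assoc (S.el q), mul_assoc (S.el q)] at this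
    exact mul_left_cancel this
  obtain rfl : r = r' := by
    have e' := congrArg (fun g : G => g⁻¹ • a) e
    simp only [mul_inv_rev, mul_smul] at e'
    have key : ∀ (k : F) (r : F × F), k ≠ 0 →
        (S.el r)⁻¹ • S.t⁻¹ • (S.δ k)⁻¹ • a = S.el (pinv S.φ r) • S.t • a := fun k r hk => by
      rw [show (S.δ k)⁻¹ • a = a by rw [inv_smul_eq_iff, (S.δ_fix k hk).1],
        inv_eq_of_mul_eq_one_right S.mul_self, S.el_inv]
    rw [key k r h.1, key k' r' h'.1] at e'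
    have e2 := congrArg S.el (S.el_inj _ _ e')
    rw [← S.el_inv, ← S.el_inv, inv_inj] at e2
    exact S.el_injective e2
  exact ⟨rfl, S.δ_injective h.1 h'.1 (mul_right_cancel (mul_right_cancel e)), rfl⟩

variable (S)

theorem exists_rel {p : F × F} (hp : p ≠ (0, 0)) : ∃ q k r, S.Rel p q k r := by
  set g := S.t * S.el p * S.t with hg
  have htt : S.t • S.t • a = a := by rw [← mul_smul, S.mul_self, one_smul]
  have hga : g • a ≠ a := by
    intro e
    apply hp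
    refine S.el_inj p (0, 0) ?_
    rw [hg, mul_smul, mul_smul] at e
    have := congrArg (S.t • ·) e
    simp only [← mul_smul S.t S.t, S.mul_self, one_smul] at this
    rw [this, S.el_zero, one_smul]
  obtain ⟨q, hq⟩ := S.el_surj (g • a) hga
  have hga' : g⁻¹ • a ≠ a := fun e => hga (by rwa [inv_smul_eq_iff, eq_comm] at e)
  obtain ⟨r', hr'⟩ := S.el_surj (g⁻¹ • a) hga'
  set d := (S.el q)⁻¹ * g * S.el r' * S.t with hd
  have hqi : ∀ q', (S.el q')⁻¹ • a = a := fun q' => by rw [inv_smul_eq_iff, S.el_fix]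
  have hd1 : d • a = a := by
    rw [hd, mul_smul, mul_smul, mul_smul, hr', smul_inv_smul, hqi]
  have hd2 : d • S.t • a = S.t • a := by
    rw [hd, mul_smul, mul_smul, mul_smul, htt, S.el_fix, ← hq, inv_smul_smul]
  obtain ⟨k, hk, hdk⟩ := S.δ_surj d hd1 hd2
  refine ⟨q, k, pinv S.φ r', hk, ?_⟩
  have h1 : S.δ k * S.t = (S.el q)⁻¹ * g * S.el r' := by
    rw [← hdk, hd, mul_assoc _ S.t S.t, S.mul_self, mul_one]
  calc g = S.el q * ((S.el q)⁻¹ * g * S.el r') * (S.el r')⁻¹ := by group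
    _ = _ := by rw [← h1, S.el_inv]; group

variable {S}

theorem Rel.scale {p q r : F × F} {k c : F} (h : S.Rel p q k r) (hc : c ≠ 0) :
    S.Rel (sc S.φ c p) (sc S.φ c⁻¹ q) (k / c ^ 2) (sc S.φ c⁻¹ r) := by
  have hci := inv_ne_zero hc
  have hk2 : k / c ^ 2 ≠ 0 := div_ne_zero h.1 (pow_ne_zero _ hc)
  refine ⟨hk2, ?_⟩
  have e1 : ∀ d p', d ≠ 0 → S.el (sc S.φ d p') = S.δ d * S.el p' * (S.δ d)⁻¹ := fun d p' hd => by
    rw [S.δ_el d p' hd, mul_inv_cancel_right]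
  rw [e1 c p hc, e1 c⁻¹ q hci, e1 c⁻¹ r hci, S.δ_inv hci, inv_inv, S.δ_inv hc]
  have hswap : ∀ X, (S.t * S.δ c) * X * (S.δ c⁻¹ * S.t) = (S.δ c⁻¹ * S.t) * X * (S.t * S.δ c) :=
    fun X => by rw [S.δ_t c hc]
  have hright : S.δ c⁻¹ * S.el q * S.δ c * S.δ (k / c ^ 2) * S.t * (S.δ c⁻¹ * S.el r * S.δ c) =
      S.δ c⁻¹ * S.el q * (S.δ c * S.δ (k / c ^ 2) * (S.t * S.δ c⁻¹)) * S.el r * S.δ c := by group
  have hmid : S.δ c * S.δ (k / c ^ 2) * S.δ c = S.δ k := by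
    rw [← S.δ_mul _ _ hc hk2, ← S.δ_mul _ _ (mul_ne_zero hc hk2) hc]
    congr 1
    field_simp
  calc S.t * (S.δ c * S.el p * S.δ c⁻¹) * S.t
      = (S.t * S.δ c) * S.el p * (S.δ c⁻¹ * S.t) := by group
    _ = (S.δ c⁻¹ * S.t) * S.el p * (S.t * S.δ c) := hswap _
    _ = S.δ c⁻¹ * (S.t * S.el p * S.t) * S.δ c := by group
    _ = S.δ c⁻¹ * (S.el q * S.δ k * S.t * S.el r) * S.δ c := by rw [h.2]
    _ = _ := by
        rw [hright, S.δ_t _ hci, inv_inv, ← hmid]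
        group

theorem Rel.inverse {p q r : F × F} {k : F} (h : S.Rel p q k r) :
    S.Rel (pinv S.φ p) (pinv S.φ r) k (pinv S.φ q) := by
  refine ⟨h.1, ?_⟩
  rw [← S.el_inv, ← S.el_inv, ← S.el_inv]
  have ht : S.t⁻¹ = S.t := inv_eq_of_mul_eq_one_right S.mul_self
  have := congrArg (fun g : G => g⁻¹) h.2
  simp only [mul_inv_rev, ht, S.δ_inv h.1] at this
  calc S.t * (S.el p)⁻¹ * S.t = (S.el r)⁻¹ * (S.t * (S.δ k⁻¹ * (S.el q)⁻¹)) := by rw [← this]; group
    _ = (S.el r)⁻¹ * (S.t * S.δ k⁻¹) * (S.el q)⁻¹ := by group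
    _ = _ := by rw [S.δ_t _ (inv_ne_zero h.1), inv_inv]; group

theorem Rel.comp {p p' q q' r r' v w : F × F} {k₁ k₂ k₃ : F} (h₁ : S.Rel p q k₁ r)
    (h₂ : S.Rel p' q' k₂ r') (h₃ : S.Rel (pm S.φ S.β r q') v k₃ w) :
    S.Rel (pm S.φ S.β p p') (pm S.φ S.β q (sc S.φ k₁ v)) (k₁ * k₃ * k₂)
      (pm S.φ S.β (sc S.φ k₂ w) r') := by
  have hne := mul_ne_zero (mul_ne_zero h₁.1 h₃.1) h₂.1
  refine ⟨hne, ?_⟩
  rw [← S.el_mul, ← S.el_mul, ← S.el_mul]
  have htk : S.δ k₂ * S.t = S.t * S.δ k₂⁻¹ := by rw [S.δ_t _ (inv_ne_zero h₂.1), inv_inv]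
  calc S.t * (S.el p * S.el p') * S.t = (S.t * S.el p * S.t) * (S.t * S.el p' * S.t) := by
        simp only [mul_assoc]; rw [← mul_assoc S.t S.t (S.el p' * S.t), S.mul_self, one_mul]
    _ = S.el q * S.δ k₁ * S.t * S.el r * (S.el q' * S.δ k₂ * S.t * S.el r') := by rw [h₁.2, h₂.2]
    _ = S.el q * S.δ k₁ * (S.t * (S.el r * S.el q') * S.t) * S.δ k₂⁻¹ * S.el r' := by
        rw [show S.el q' * S.δ k₂ * S.t * S.el r' = S.el q' * (S.δ k₂ * S.t) * S.el r' by group, htk]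
        group
    _ = S.el q * S.δ k₁ * (S.el v * S.δ k₃ * S.t * S.el w) * S.δ k₂⁻¹ * S.el r' := by
        rw [S.el_mul r q', h₃.2]
    _ = S.el q * (S.δ k₁ * S.el v) * S.δ k₃ * S.t * (S.el w * S.δ k₂⁻¹) * S.el r' := by group
    _ = S.el q * S.el (sc S.φ k₁ v) * (S.δ k₁ * S.δ k₃) * (S.t * S.δ k₂⁻¹) * S.el (sc S.φ k₂ w) * S.el r' := by
        have e : S.el w * S.δ k₂⁻¹ = S.δ k₂⁻¹ * S.el (sc S.φ k₂ w) := by
          rw [← S.δ_inv h₂.1, eq_inv_mul_iff_mul_eq, ← mul_assoc, S.δ_el _ _ h₂.1]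
          group
        rw [S.δ_el k₁ v h₁.1, e]; group
    _ = _ := by
        rw [S.δ_t _ (inv_ne_zero h₂.1), inv_inv, S.δ_mul _ _ (mul_ne_zero h₁.1 h₃.1) h₂.1,
          S.δ_mul _ _ h₁.1 h₃.1]
        group

end SData

end CfsgLib.SuzukiUnique
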